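import Cfsg.Agent.Ln.Mon

/-!
Odd order automorphisms of 2-groups: generic lemmas; projective models of monomial groups.
-/

set_option autoImplicit false
set_option linter.unusedSectionVars false

namespace Cfsg.Agent.Ln

open Equiv Mon

section generic
variable {T : Type*} [Group T] {α : MulAut T} {r : ℕ}

theorem eq_one_of_odd (hT : IsPGroup 2 T) (hr : Odd r) {e : T} (he : e ^ r = 1) : e = 1 := by
  obtain ⟨k, hk⟩ := hT e
  have h1 := orderOf_dvd_of_pow_eq_one he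
  have h2 := orderOf_dvd_of_pow_eq_one hk
  have h3 : Nat.Coprime r (2 ^ k) := Nat.Coprime.pow_right _ (Nat.coprime_two_right.2 hr)
  exact orderOf_eq_one_iff.1 (Nat.eq_one_of_dvd_coprimes h3 h1 h2)

theorem fix_of_cocycle (hT : IsPGroup 2 T) (hr : Odd r) (hα : α ^ r = 1) {t : T}
    (h : α (α t * t⁻¹) = α t * t⁻¹) : α t = t := by
  obtain ⟨e, he⟩ : ∃ e, e = α t * t⁻¹ := ⟨_, rfl⟩
  rw [← he] at h
  have h0 : α t = e * t := by rw [he]; group
  have h1 : ∀ k : ℕ, (α ^ k) t = e ^ k * t := by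
    intro k
    induction k with
    | zero => simp
    | succ k ih => rw [pow_succ', MulAut.mul_apply, ih, map_mul, map_pow, h, h0, pow_succ, mul_assoc]
  have h2 := h1 r
  rw [hα, MulAut.one_apply, eq_comm, mul_eq_right] at h2
  rw [h0, eq_one_of_odd hT hr h2, one_mul]

theorem fix_of_zpowers (hT : IsPGroup 2 T) (hr : Odd r) (hα : α ^ r = 1) (j : ℕ) :
    ∀ g : T, g ^ 2 ^ j = 1 → α g ∈ Subgroup.zpowers g → α g = g := by
  induction j with
  | zero => intro g hg _; simp only [pow_zero, pow_one] at hg; simp [hg]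
  | succ j ih =>
    intro g hg ⟨m, hm⟩
    simp only at hm
    have hg2 : (g ^ 2) ^ 2 ^ j = 1 := by rw [← pow_mul, ← pow_succ']; exact hg
    rcases Int.even_or_odd' m with ⟨k, rfl | rfl⟩
    · refine ih g ?_ ⟨2 * k, hm⟩
      apply α.injective
      rw [map_pow, map_one, ← hm, zpow_mul, ← zpow_natCast, ← zpow_mul, mul_comm, zpow_mul,
        zpow_natCast]
      have : g ^ (2 : ℤ) = g ^ 2 := by norm_cast
      rw [this, hg2, one_zpow]
    · have h2 : α (g ^ 2) = g ^ 2 := by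
        refine ih _ hg2 ⟨2 * k + 1, ?_⟩
        simp only
        rw [map_pow, ← hm, ← zpow_natCast, ← zpow_natCast, ← zpow_mul, ← zpow_mul, mul_comm]
      apply fix_of_cocycle hT hr hα
      have h3 : α g * g⁻¹ = (g ^ 2) ^ k := by
        rw [← hm, zpow_add_one, mul_inv_cancel_right, zpow_mul]; norm_cast
      rw [h3, map_zpow, h2]

theorem fix_range (hT : IsPGroup 2 T) (hr : Odd r) (hα : α ^ r = 1) {U : Type*} [Group U]
    (y : U →* T) {u₀ : U} (hu : ∀ u, u ∈ Subgroup.zpowers u₀) (h : α (y u₀) ∈ y.range) (u : U) :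
    α (y u) = y u := by
  obtain ⟨j, hj⟩ := hT (y u₀)
  have h1 : α (y u₀) = y u₀ := by
    refine fix_of_zpowers hT hr hα j _ hj ?_
    obtain ⟨v, hv⟩ := h
    obtain ⟨m, rfl⟩ := hu v
    exact ⟨m, by simp only at hv ⊢; rw [← hv, map_zpow]⟩
  obtain ⟨m, rfl⟩ := hu u
  simp only [map_zpow, h1]

/-- a nontrivial power outside a subgroup with square inside -/
theorem exists_pow_sq (hT : IsPGroup 2 T) (A : Subgroup T) {t : T} (ht : t ∉ A) :
    ∃ k : ℕ, t ^ k ∉ A ∧ t ^ k * t ^ k ∈ A := by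
  obtain ⟨j, hj⟩ := hT t
  have h : ∃ j : ℕ, t ^ 2 ^ j ∈ A := ⟨j, hj ▸ A.one_mem⟩
  classical
  have h0 : Nat.find h ≠ 0 := fun h0 => by
    have := Nat.find_spec h
    rw [h0] at this; simp at this; exact ht this
  obtain ⟨k, hk⟩ := Nat.exists_eq_succ_of_ne_zero h0
  refine ⟨2 ^ k, Nat.find_min h (by omega), ?_⟩
  have := Nat.find_spec h
  rw [hk, pow_succ, mul_two, pow_add] at this
  exact this

end generic

variable {B C : Type*} [CommGroup B] [CommGroup C]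

/-- A projective special model of the monomial group. -/
structure Mod (d : Dat B C) (I J : Type*) [Fintype I] [Fintype J] (P : Subgroup (Perm I))
    (T : Type*) [Group T] where
  δ : Mon d I J P →* C
  δ_dg : ∀ a μ, δ (dg a μ) = (∏ i, d.N (a i)) * ∏ j, μ j
  π : δ.ker →* T
  surj : Function.Surjective π
  ker : ∀ w : δ.ker, π w = 1 ↔ ∃ c, (w : Mon d I J P) = scal c

namespace Mod
variable {d : Dat B C} {I J : Type*} [Fintype I] [Fintype J] {P : Subgroup (Perm I)}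
  {T : Type*} [Group T] (M : Mod d I J P T)

/-- `w` is a lift of `t`. -/
def R (w : Mon d I J P) (t : T) : Prop := ∃ h : w ∈ M.δ.ker, M.π ⟨w, h⟩ = t

variable {M}
theorem R.δ {w : Mon d I J P} {t : T} (h : M.R w t) : M.δ w = 1 := h.1
theorem R.mul {w v : Mon d I J P} {t u : T} (h : M.R w t) (h' : M.R v u) : M.R (w * v) (t * u) := by
  obtain ⟨h1, rfl⟩ := h
  obtain ⟨h2, rfl⟩ := h'
  exact ⟨mul_mem h1 h2, by rw [← map_mul]; rfl⟩
theorem R.inv {w : Mon d I J P} {t : T} (h : M.R w t) : M.R w⁻¹ t⁻¹ := by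
  obtain ⟨h1, rfl⟩ := h
  exact ⟨inv_mem h1, by rw [← map_inv]; rfl⟩
theorem R.pow {w : Mon d I J P} {t : T} (h : M.R w t) (n : ℕ) : M.R (w ^ n) (t ^ n) := by
  obtain ⟨h1, rfl⟩ := h
  exact ⟨pow_mem h1 n, by rw [← map_pow]; rfl⟩
theorem R.one : M.R 1 1 := ⟨one_mem _, map_one M.π⟩
theorem R.uniq {w : Mon d I J P} {t u : T} (h : M.R w t) (h' : M.R w u) : t = u := by
  obtain ⟨h1, rfl⟩ := h
  obtain ⟨h2, rfl⟩ := h'
  rfl
theorem R.eq_one_iff {w : Mon d I J P} {t : T} (h : M.R w t) : t = 1 ↔ ∃ c, w = scal c := by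
  obtain ⟨h1, rfl⟩ := h
  exact M.ker _
theorem R.dg_eq_one_iff {a : I → B} {μ : J → C} {t : T} (h : M.R (dg a μ) t) :
    t = 1 ↔ ∃ c, (∀ i, a i = d.ι c) ∧ ∀ j, μ j = c := by
  rw [h.eq_one_iff]
  constructor
  · rintro ⟨c, hc⟩
    exact ⟨c, fun i => congrFun (congrArg Mon.a hc) i, fun j => congrFun (congrArg Mon.μ hc) j⟩
  · rintro ⟨c, h1, h2⟩
    exact ⟨c, by rw [funext h1, funext h2]; rfl⟩
variable (M) in
theorem exists_R (t : T) : ∃ w, M.R w t := by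
  obtain ⟨w, rfl⟩ := M.surj t
  exact ⟨w, w.2, rfl⟩
theorem exists_R' {w : Mon d I J P} (h : M.δ w = 1) : ∃ t, M.R w t := ⟨_, h, rfl⟩
theorem R.ty_eq {w v : Mon d I J P} {t : T} (h : M.R w t) (h' : M.R v t) :
    w.s = v.s ∧ w.p = v.p := by
  have h1 := h.inv.mul h'
  obtain ⟨c, hc⟩ := h1.eq_one_iff.1 (inv_mul_cancel t)
  have h2 : v = w * scal c := by rw [← hc]; group
  subst h2
  refine ⟨funext fun i => ?_, ?_⟩ <;> simp [scal]

variable (M) in
/-- the image of the diagonal subgroup -/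
def A : Subgroup T where
  carrier := {t | ∃ a μ, M.R (dg a μ) t}
  one_mem' := ⟨1, 1, R.one⟩
  mul_mem' := by
    rintro t u ⟨a, μ, h⟩ ⟨b, ν, h'⟩
    exact ⟨_, _, dg_mul (P := P) a b μ ν ▸ h.mul h'⟩
  inv_mem' := by
    rintro t ⟨a, μ, h⟩
    exact ⟨_, _, dg_inv (P := P) a μ ▸ h.inv⟩

theorem mem_A {t : T} : t ∈ M.A ↔ ∃ a μ, M.R (dg a μ) t := Iff.rfl
theorem R.mem_A {w : Mon d I J P} {t : T} (h : M.R w t) :
    t ∈ M.A ↔ (∀ i, w.s i = false) ∧ w.p = 1 := by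
  constructor
  · rintro ⟨a, μ, h'⟩
    obtain ⟨h1, h2⟩ := h.ty_eq h'
    exact ⟨fun i => by rw [h1]; rfl, h2⟩
  · rintro ⟨h1, h2⟩
    exact ⟨_, _, eq_dg h1 h2 ▸ h⟩
theorem A_comm {x y : T} (hx : x ∈ M.A) (hy : y ∈ M.A) : x * y = y * x := by
  obtain ⟨a, μ, h⟩ := hx
  obtain ⟨b, ν, h'⟩ := hy
  have h1 := h.mul h'
  have h2 := h'.mul h
  rw [dg_mul] at h1 h2
  rw [mul_comm a, mul_comm μ] at h1
  exact h1.uniq h2
theorem R.comm {w : Mon d I J P} {t x : T} {a : I → B} {μ : J → C} (h : M.R w t)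
    (h' : M.R (dg a μ) x) : M.R (dg (w.cm a) 1) (t * x * t⁻¹ * x⁻¹) :=
  comm_dg w a μ ▸ ((h.mul h').mul h.inv).mul h'.inv
theorem comm_mem_A (t : T) {x : T} (hx : x ∈ M.A) : t * x * t⁻¹ * x⁻¹ ∈ M.A := by
  obtain ⟨a, μ, h⟩ := hx
  obtain ⟨w, hw⟩ := M.exists_R t
  exact ⟨_, _, hw.comm h⟩
theorem conj_mem_A (t : T) {x : T} (hx : x ∈ M.A) : t * x * t⁻¹ ∈ M.A := by
  simpa using mul_mem (comm_mem_A t hx) hx

variable (M) in
/-- the type of an element -/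
def Ty (t : T) (s : I → Bool) (p : P) : Prop := ∃ w, M.R w t ∧ w.s = s ∧ w.p = p

theorem Ty.uniq {t : T} {s s' : I → Bool} {p p' : P} (h : M.Ty t s p) (h' : M.Ty t s' p') :
    s = s' ∧ p = p' := by
  obtain ⟨w, h, rfl, rfl⟩ := h
  obtain ⟨v, h', rfl, rfl⟩ := h'
  exact h.ty_eq h'
theorem Ty.mem_A {t u : T} {s : I → Bool} {p : P} (h : M.Ty t s p) (h' : M.Ty u s p) :
    t * u⁻¹ ∈ M.A := by
  obtain ⟨w, h, rfl, rfl⟩ := h
  obtain ⟨v, h', h1, h2⟩ := h'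
  rw [(h.mul h'.inv).mem_A]
  simp [h1, h2]
theorem Ty.of_A {t x : T} {s : I → Bool} {p : P} (h : M.Ty t s p) (hx : x ∈ M.A) :
    M.Ty (x * t) s p := by
  obtain ⟨w, h, rfl, rfl⟩ := h
  obtain ⟨a, μ, h'⟩ := hx
  exact ⟨_, h'.mul h, by ext i; simp, by simp⟩

variable [DecidableEq I]

theorem δ_single (i : I) (x : B) (μ : J → C) :
    M.δ (dg (Pi.mulSingle i x) μ) = d.N x * ∏ j, μ j := by
  rw [M.δ_dg, Finset.prod_eq_single i]
  · simp
  · intro l _ hl; simp [Pi.mulSingle_eq_of_ne hl]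
  · simp

variable (M) in
/-- the norm one elements placed at coordinate `i` -/
def y (i : I) : d.N.ker →* T :=
  MonoidHom.mk' (fun u => M.π ⟨dg (Pi.mulSingle i (u : B)) 1, by
      rw [MonoidHom.mem_ker, δ_single, MonoidHom.mem_ker.1 u.2]; simp⟩)
    (fun u v => by
      rw [← map_mul]; congr 1; apply Subtype.ext
      simp only [Subgroup.coe_mul, dg_mul, Pi.mulSingle_mul, mul_one])

theorem R_y (i : I) (u : d.N.ker) : M.R (dg (Pi.mulSingle i (u : B)) 1) (M.y i u) := ⟨_, rfl⟩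
theorem y_mem_A (i : I) (u : d.N.ker) : M.y i u ∈ M.A := ⟨_, _, R_y i u⟩

theorem comp_J (j : J) (i : I) (x : B) :
    ∃ μ, ∃ t, M.R (dg (Pi.mulSingle i x) μ) t := by
  classical
  refine ⟨Pi.mulSingle j (d.N x)⁻¹, exists_R' ?_⟩
  rw [δ_single, Finset.prod_eq_single j]
  · simp
  · intro l _ hl; simp [Pi.mulSingle_eq_of_ne hl]
  · simp

theorem comp_l (i l : I) (x : B) :
    ∃ t, M.R (dg (Pi.mulSingle i x * Pi.mulSingle l x⁻¹) 1) t := by
  apply exists_R'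
  have : (dg (Pi.mulSingle i x * Pi.mulSingle l x⁻¹) 1 : Mon d I J P) =
      dg (Pi.mulSingle i x) 1 * dg (Pi.mulSingle l x⁻¹) 1 := by rw [dg_mul, mul_one]
  rw [this, map_mul, δ_single, δ_single]; simp

/-- there is a second place -/
def H2 (I J : Type*) : Prop := ∀ i : I, Nonempty J ∨ ∃ l : I, l ≠ i
/-- there is a third place -/
def H3 (I J : Type*) : Prop := ∀ i j : I, i ≠ j → Nonempty J ∨ ∃ l : I, l ≠ i ∧ l ≠ j

theorem comp2 (h : H2 I J) (i : I) (x : B) : ∃ a μ t, M.R (dg a μ) t ∧ a i = x := by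
  rcases h i with ⟨⟨j⟩⟩ | ⟨l, hl⟩
  · obtain ⟨μ, t, ht⟩ := comp_J (M := M) j i x
    exact ⟨_, μ, t, ht, by simp⟩
  · obtain ⟨t, ht⟩ := comp_l (M := M) i l x
    exact ⟨_, _, t, ht, by simp [Pi.mulSingle_eq_of_ne hl.symm]⟩

theorem comp3 (h : H3 I J) {i j : I} (hij : i ≠ j) (x : B) :
    ∃ a μ t, M.R (dg a μ) t ∧ a i = x ∧ a j = 1 := by
  rcases h i j hij with ⟨⟨j⟩⟩ | ⟨l, hl, hl'⟩
  · obtain ⟨μ, t, ht⟩ := comp_J (M := M) j i x
    exact ⟨_, μ, t, ht, by simp, by simp [Pi.mulSingle_eq_of_ne hij.symm]⟩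
  · obtain ⟨t, ht⟩ := comp_l (M := M) i l x
    exact ⟨_, _, t, ht, by simp [Pi.mulSingle_eq_of_ne hl.symm],
      by simp [Pi.mulSingle_eq_of_ne hl'.symm, Pi.mulSingle_eq_of_ne hij.symm]⟩

theorem exists_Ty [Nonempty I] (s : I → Bool) (p : P) : ∃ t, M.Ty t s p := by
  obtain ⟨i⟩ := ‹Nonempty I›
  obtain ⟨x, hx⟩ := d.N_surj (M.δ (ty s p))⁻¹
  obtain ⟨t, ht⟩ := exists_R' (M := M) (w := dg (Pi.mulSingle i x) 1 * ty s p) (by
    rw [map_mul, δ_single, hx]; simp)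
  exact ⟨t, _, ht, by ext i; simp, by simp⟩

theorem single_scal (h : H2 I J) {i : I} {x : B} {c : C}
    (h1 : ∀ l, (Pi.mulSingle i x : I → B) l = d.ι c) (h2 : ∀ j : J, (1 : J → C) j = c) : x = 1 := by
  have hc : c = 1 := by
    rcases h i with ⟨⟨j⟩⟩ | ⟨l, hl⟩
    · exact (h2 j).symm
    · have := h1 l
      rw [Pi.mulSingle_eq_of_ne hl] at this
      exact d.ι_inj (by rw [← this, map_one])
  have := h1 i
  rwa [Pi.mulSingle_eq_same, hc, map_one] at this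

theorem y_inj (h : H2 I J) (i : I) : Function.Injective (M.y i) := by
  rw [injective_iff_map_eq_one]
  intro u hu
  obtain ⟨c, h1, h2⟩ := (R_y i u).dg_eq_one_iff.1 hu
  exact Subtype.ext (single_scal h h1 h2)

/-- an element commuting with all `y i u` is diagonal -/
theorem mem_A_of_comm {u : d.N.ker} (hu : ((u : B) * u ≠ 1 ∧ H2 I J) ∨ (u : B) ^ 4 ≠ 1) {t : T}
    (ht : ∀ i, t * M.y i u = M.y i u * t) : t ∈ M.A := by
  have hN : d.N u = 1 := u.2
  have hu2 : (u : B) * u ≠ 1 := by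
    rcases hu with h | h
    · exact h.1
    · intro h2; apply h
      rw [show (4 : ℕ) = 2 + 2 from rfl, pow_add, sq, h2, one_mul]
  obtain ⟨w, hw⟩ := M.exists_R t
  have key : ∀ i, ∃ c, (∀ l, w.cm (Pi.mulSingle i (u : B)) l = d.ι c) ∧ ∀ j, (1 : J → C) j = c :=
    fun i => (hw.comm (R_y i u)).dg_eq_one_iff.1 (by rw [ht i]; group)
  have hp : ∀ i, (w.p : Perm I)⁻¹ i = i := by
    intro i
    by_contra hi
    obtain ⟨c, h1, -⟩ := key i
    have := h1 i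
    simp only [cm, Pi.mulSingle_eq_of_ne hi, map_one, one_mul, Pi.mulSingle_eq_same] at this
    refine hu2 (d.sq_of_ι hN (c := c⁻¹) ?_)
    rw [map_inv, ← this, inv_inv]
  rw [hw.mem_A]
  refine ⟨fun i => ?_, ?_⟩
  · by_contra hi
    rw [Bool.not_eq_false] at hi
    obtain ⟨c, h1, h2⟩ := key i
    have h3 : w.cm (Pi.mulSingle i (u : B)) = Pi.mulSingle i ((u : B) * u)⁻¹ := by
      ext l
      by_cases hl : l = i
      · subst hl; simp [cm, hp, hi, d.cj_of_N hN]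
      · simp [cm, hp, Pi.mulSingle_eq_of_ne hl]
    rw [h3] at h1
    rcases hu with h | h
    · exact hu2 (inv_eq_one.1 (single_scal h.2 h1 h2))
    · have h4 := h1 i
      rw [Pi.mulSingle_eq_same] at h4
      have := d.sq_of_ι (u := (u : B) * u) (by rw [map_mul, hN, one_mul]) (c := c⁻¹)
        (by rw [map_inv, ← h4, inv_inv])
      apply h
      rw [show (4 : ℕ) = 2 + 2 from rfl, pow_add, sq, this]
  · apply Subtype.ext
    rw [Subgroup.coe_one, ← inv_eq_one]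
    ext i; simp only [hp i]; rfl

end Mod

end Cfsg.Agent.Ln
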