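import Cfsg.Agent.Ln.Aut1

/-!
The diagonal subgroup is invariant under automorphisms.
-/

set_option autoImplicit false
set_option linter.unusedSectionVars false

namespace Cfsg.Agent.Ln

open Equiv Mon

variable {B C : Type*} [CommGroup B] [CommGroup C]

namespace Mod
variable {d : Dat B C} {I J : Type*} [Fintype I] [Fintype J] {P : Subgroup (Perm I)}
  {T : Type*} [Group T] {M : Mod d I J P T} [DecidableEq I]

theorem R.ratio {a b : I → B} {μ ν : J → C} {t : T} (h : M.R (dg a μ) t) (h' : M.R (dg b ν) t) :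
    ∃ c, (∀ i, a i = b i * d.ι c) ∧ ∀ j, μ j = ν j * c := by
  have h1 := h'.inv.mul h
  rw [dg_inv, dg_mul] at h1
  obtain ⟨c, h2, h3⟩ := h1.dg_eq_one_iff.1 (inv_mul_cancel t)
  exact ⟨c, fun i => by rw [← h2 i]; simp, fun j => by rw [← h3 j]; simp⟩

theorem p_eq_one {p : P} (hp : ∀ i, (p : Perm I)⁻¹ i = i) : p = 1 := by
  apply Subtype.ext
  rw [Subgroup.coe_one, ← inv_eq_one]
  ext i; simp only [hp i]; rfl

theorem cm_single_self {w : Mon d I J P} {i : I} (hi : (w.p : Perm I)⁻¹ i ≠ i) (x : B) :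
    w.cm (Pi.mulSingle i x) i = x⁻¹ := by
  simp only [cm, Pi.mulSingle_eq_of_ne hi, map_one, one_mul, Pi.mulSingle_eq_same]

theorem cm_single_ne {w : Mon d I J P} {i l : I} (hl : l ≠ i) (hi : (w.p : Perm I)⁻¹ l ≠ i) (x : B) :
    w.cm (Pi.mulSingle i x) l = 1 := by
  simp only [cm, Pi.mulSingle_eq_of_ne hi, map_one, one_mul, Pi.mulSingle_eq_of_ne hl, inv_one]

theorem pow_four (u : B) : u ^ 4 = u * u * (u * u) := by
  rw [show (4 : ℕ) = 2 + 2 from rfl, pow_add, sq]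

theorem not_quad [Finite B] {u : d.N.ker} (hu2 : (u : B) * u ≠ 1) (h2 : H2 I J)
    (h : (u : B) ^ 4 ≠ 1 ∨ H3 I J) {b : T} (hb : b ∉ M.A) :
    ∃ x ∈ M.A, (b * x * b⁻¹ * x⁻¹) * (b * x * b⁻¹ * x⁻¹) ≠ 1 := by
  have hN : d.N u = 1 := u.2
  by_contra hcon
  push Not at hcon
  obtain ⟨w, hw⟩ := M.exists_R b
  have key : ∀ a μ x, M.R (dg a μ) x → ∃ c, (∀ l, w.cm a l * w.cm a l = d.ι c) ∧
      (Nonempty J → c = 1) := by
    intro a μ x hx
    have h1 := (hw.comm hx).mul (hw.comm hx)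
    rw [dg_mul] at h1
    obtain ⟨c, h3, h4⟩ := h1.dg_eq_one_iff.1 (hcon x ⟨_, _, hx⟩)
    exact ⟨c, h3, fun ⟨j⟩ => by simpa using (h4 j).symm⟩
  have fin : ∀ c : C, ((u : B) * u = d.ι c ∨ (u : B)⁻¹ * (u : B)⁻¹ = d.ι c) →
      ((u : B) ^ 4 ≠ 1 ∨ c = 1) → False := by
    intro c h1 h3
    have h4 : ∃ e : C, (u : B) * u = d.ι e ∧ (c = 1 → e = 1) := by
      rcases h1 with h1 | h1
      · exact ⟨c, h1, id⟩
      · exact ⟨c⁻¹, by rw [map_inv, ← h1]; simp [mul_comm], fun h => by simp [h]⟩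
    obtain ⟨e, he, hce⟩ := h4
    rcases h3 with h3 | h3
    · exact h3 (by rw [pow_four]; exact d.sq_of_ι (by rw [map_mul, hN, one_mul]) he)
    · exact hu2 (by rw [he, hce h3, map_one])
  by_cases hp : ∀ i, (w.p : Perm I)⁻¹ i = i
  · have hs : ∃ i, w.s i = true := by
      by_contra hs
      push Not at hs
      exact hb (hw.mem_A.2 ⟨fun i => by simpa using hs i, p_eq_one hp⟩)
    obtain ⟨i, hi⟩ := hs
    obtain ⟨x, hx⟩ := d.h90 hN
    have hcm : ∀ a : I → B, a i = x → w.cm a i = u := fun a ha => by simp [cm, hp, hi, ha, hx]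
    by_cases h' : (u : B) ^ 4 ≠ 1 ∨ Nonempty J
    · obtain ⟨a, μ, t, ht, ha⟩ := comp2 (M := M) h2 i x
      obtain ⟨c, h3, h4⟩ := key a μ t ht
      exact fin c (Or.inl (by rw [← h3 i, hcm a ha])) (h'.imp id h4)
    · rw [not_or] at h'
      obtain ⟨j, hj⟩ := (h2 i).resolve_left h'.2
      obtain ⟨a, μ, t, ht, ha, ha'⟩ := comp3 (M := M) (h.resolve_left h'.1) hj.symm x
      obtain ⟨c, h3, -⟩ := key a μ t ht
      refine fin c (Or.inl (by rw [← h3 i, hcm a ha])) (Or.inr (d.ι_inj ?_))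
      rw [← h3 j]; simp [cm, hp, ha']
  · push Not at hp
    obtain ⟨i, hi⟩ := hp
    obtain ⟨c, h3, h4⟩ := key _ _ _ (R_y (M := M) i u)
    refine fin c (Or.inr ?_) ?_
    · rw [← h3 i, cm_single_self hi]
    · refine h.imp id fun h5 => ?_
      have hi' : i ≠ (w.p : Perm I) i := fun h6 => hi (by rw [Perm.inv_eq_iff_eq]; exact h6)
      rcases h5 i _ hi' with h6 | ⟨l, hl, hl'⟩
      · exact h4 h6
      · apply d.ι_inj
        have hl2 : (w.p : Perm I)⁻¹ l ≠ i := fun h6 => hl' (by rw [← h6]; simp)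
        rw [← h3 l, cm_single_ne hl hl2]; simp

theorem inv_gen [Finite B] (hT : IsPGroup 2 T) {u : d.N.ker} (hu2 : (u : B) * u ≠ 1) (h2 : H2 I J)
    (h : (u : B) ^ 4 ≠ 1 ∨ H3 I J) (α : MulAut T) {x₀ : T} (hx₀ : x₀ ∈ M.A) : α x₀ ∈ M.A := by
  by_contra hcon
  obtain ⟨k, hk1, hk2⟩ := exists_pow_sq hT M.A hcon
  obtain ⟨x, hx, hne⟩ := not_quad hu2 h2 h hk1
  apply hne
  rw [← map_pow] at hk1 hk2 ⊢
  have hz : x₀ ^ k ∈ M.A := pow_mem hx₀ k
  generalize x₀ ^ k = z at *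
  obtain ⟨x', rfl⟩ := α.surjective x
  have h1 : z * (x' * z⁻¹ * x'⁻¹) = (x' * z⁻¹ * x'⁻¹) * z := A_comm hz (conj_mem_A x' (inv_mem hz))
  have h3 := A_comm hk2 hx
  simp only [← map_mul, ← map_inv] at h3 ⊢
  have h4 := α.injective h3
  rw [map_eq_one_iff _ α.injective]
  calc z * x' * z⁻¹ * x'⁻¹ * (z * x' * z⁻¹ * x'⁻¹)
      = z * ((x' * z⁻¹ * x'⁻¹) * z) * (x' * z⁻¹ * x'⁻¹) := by group
    _ = z * (z * (x' * z⁻¹ * x'⁻¹)) * (x' * z⁻¹ * x'⁻¹) := by rw [h1]
    _ = (z * z * x') * z⁻¹ * z⁻¹ * x'⁻¹ := by group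
    _ = 1 := by rw [h4]; group

/-- the sign pattern of a reflection -/
def cI (i : I) : I → Bool := fun l => decide (l = i)

theorem cm_cI {w : Mon d I J P} {i : I} (hs : w.s = cI i) (hp : w.p = 1) (a : I → B) :
    w.cm a = Pi.mulSingle i (d.cj (a i) * (a i)⁻¹) := by
  ext l
  by_cases hl : l = i
  · subst hl; simp [cm, hs, hp, cI]
  · simp [cm, hs, hp, cI, hl, Pi.mulSingle_eq_of_ne hl]

theorem Ty.comm_mem {t x : T} {i : I} (h : M.Ty t (cI i) 1) (hx : x ∈ M.A) :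
    t * x * t⁻¹ * x⁻¹ ∈ (M.y i).range := by
  obtain ⟨w, hw, hs, hp⟩ := h
  obtain ⟨a, μ, hx⟩ := hx
  have h1 := hw.comm hx
  rw [cm_cI hs hp] at h1
  exact ⟨⟨_, d.N_h (a i)⟩, (R_y i _).uniq h1⟩

theorem Ty.exists_comm [Finite B] (h2 : H2 I J) {t : T} {i : I} (h : M.Ty t (cI i) 1)
    (u : d.N.ker) : ∃ x ∈ M.A, t * x * t⁻¹ * x⁻¹ = M.y i u := by
  obtain ⟨w, hw, hs, hp⟩ := h
  obtain ⟨x, hx⟩ := d.h90 (u := u) u.2
  obtain ⟨a, μ, z, hz, ha⟩ := comp2 (M := M) h2 i x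
  have h1 := hw.comm hz
  rw [cm_cI hs hp, ha, hx] at h1
  exact ⟨z, ⟨_, _, hz⟩, h1.uniq (R_y i u)⟩

theorem Ty.not_mem_A {t : T} {i : I} (h : M.Ty t (cI i) 1) : t ∉ M.A := by
  obtain ⟨w, hw, hs, hp⟩ := h
  rw [hw.mem_A]
  intro h
  have := h.1 i
  simp [hs, cI] at this

theorem Ty.sq_mem_A {t : T} {s : I → Bool} (h : M.Ty t s 1) : t * t ∈ M.A := by
  obtain ⟨w, hw, hs, hp⟩ := h
  rw [(hw.mul hw).mem_A]
  simp [hp]

section two
variable {i₀ i₁ : I}

theorem perm_two (hI : ∀ l, l = i₀ ∨ l = i₁) (h01 : i₀ ≠ i₁) (p : Perm I) :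
    p = 1 ∨ p = swap i₀ i₁ := by
  rcases hI (p i₀) with h | h
  · left; ext l
    rcases hI l with rfl | rfl
    · exact h
    · rcases hI (p l) with h' | h'
      · exact absurd (p.injective (h.trans h'.symm)) h01
      · exact h'
  · right; ext l
    rcases hI l with rfl | rfl
    · simp [h]
    · rcases hI (p l) with h' | h'
      · simp [h']
      · exact absurd (p.injective (h.trans h'.symm)) h01

theorem prod_two (hI : ∀ l, l = i₀ ∨ l = i₁) (h01 : i₀ ≠ i₁) (f : I → C) :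
    ∏ i, f i = f i₀ * f i₁ := by
  have : (Finset.univ : Finset I) = {i₀, i₁} := by
    ext l; simpa using hI l
  rw [this, Finset.prod_pair h01]

theorem δ_ty_sq (hI : ∀ l, l = i₀ ∨ l = i₁) (h01 : i₀ ≠ i₁) (s : I → Bool) (p : P) :
    M.δ (ty s p) * M.δ (ty s p) = 1 := by
  have h1 : (ty s p : Mon d I J P) = ty s 1 * ty (fun _ => false) p := by ext i <;> simp
  have h2 : (ty s 1 : Mon d I J P) * ty s 1 = 1 := by ext i <;> simp
  have h3 : (ty (fun _ => false) p : Mon d I J P) * ty (fun _ => false) p = 1 := by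
    have hp : (p : Perm I) * p = 1 := by
      rcases perm_two hI h01 p with h | h <;> simp [h]
    ext i <;> simp [hp]
  rw [h1, map_mul, mul_mul_mul_comm, ← map_mul, ← map_mul, h2, h3]; simp

theorem δ_two [IsEmpty J] (hI : ∀ l, l = i₀ ∨ l = i₁) (h01 : i₀ ≠ i₁) (w : Mon d I J P) :
    M.δ w = d.N (w.a i₀) * d.N (w.a i₁) * M.δ (ty w.s w.p) := by
  conv_lhs => rw [dg_ty w]
  rw [map_mul, M.δ_dg, prod_two hI h01]; simp

theorem commutator_sq [IsEmpty J] (hI : ∀ l, l = i₀ ∨ l = i₁) (h01 : i₀ ≠ i₁)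
    (hsw : swap i₀ i₁ ∈ P) (h4 : ∀ c : C, c ^ 4 = 1) {t : T} (ht : t ∈ commutator T)
    (hA : t ∉ M.A) : t * t = 1 := by
  have hmap : commutator T = (commutator M.δ.ker).map M.π := by
    rw [map_commutator_eq, MonoidHom.range_eq_top.2 M.surj]; rfl
  rw [hmap] at ht
  obtain ⟨w, hw, rfl⟩ := ht
  have hR : M.R w (M.π w) := ⟨w.2, rfl⟩
  let φ₁ : M.δ.ker →* ℤˣ := MonoidHom.mk' (fun w => Perm.sign ((w : Mon d I J P).p : Perm I))
    (fun v w => by simp)
  let sg : Bool → ℤˣ := fun b => bif b then -1 else 1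
  have hsg : ∀ b c, sg (xor b c) = sg b * sg c := by
    intro b c; cases b <;> cases c <;> simp [sg]
  let φ₂ : M.δ.ker →* ℤˣ := MonoidHom.mk' (fun w => ∏ i, sg ((w : Mon d I J P).s i))
    (fun v w => by
      simp only [Subgroup.coe_mul, mul_s, hsg, Finset.prod_mul_distrib]
      congr 1
      exact Equiv.prod_comp ((v : Mon d I J P).p : Perm I)⁻¹ (fun i => sg ((w : Mon d I J P).s i)))
  have hNN : ∀ w : M.δ.ker, ∀ l, d.N ((w : Mon d I J P).a l) ^ 2 =
      d.N ((w : Mon d I J P).a i₀) ^ 2 := by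
    intro w l
    rcases hI l with rfl | rfl
    · rfl
    · have h1 := δ_two (M := M) hI h01 (w : Mon d I J P)
      rw [MonoidHom.mem_ker.1 w.2] at h1
      have h2 := δ_ty_sq (M := M) hI h01 (w : Mon d I J P).s (w : Mon d I J P).p
      have h3 := h4 (d.N ((w : Mon d I J P).a i₀))
      generalize M.δ (ty (w : Mon d I J P).s (w : Mon d I J P).p) = z at *
      generalize d.N ((w : Mon d I J P).a i₀) = x at *
      generalize d.N ((w : Mon d I J P).a l) = y at *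
      have h5 : y = x⁻¹ * z⁻¹ := by
        rw [← mul_inv_rev, eq_inv_iff_mul_eq_one, h1]; simp only [mul_comm, mul_left_comm]
      have h6 : z⁻¹ ^ 2 = 1 := by rw [inv_pow, sq, h2, inv_one]
      rw [h5, mul_pow, h6, mul_one, inv_pow, inv_eq_iff_mul_eq_one, ← pow_add, h3]
  let φ₃ : M.δ.ker →* C := MonoidHom.mk' (fun w => d.N ((w : Mon d I J P).a i₀) ^ 2)
    (fun v w => by
      simp only [Subgroup.coe_mul, mul_a, map_mul, Dat.N_tw, mul_pow]
      rw [hNN w])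
  have e1 : Perm.sign ((w : Mon d I J P).p : Perm I) = 1 :=
    Abelianization.commutator_subset_ker φ₁ hw
  have e2 : ∏ i, sg ((w : Mon d I J P).s i) = 1 := Abelianization.commutator_subset_ker φ₂ hw
  have e3 : d.N ((w : Mon d I J P).a i₀) ^ 2 = 1 := Abelianization.commutator_subset_ker φ₃ hw
  have hp : (w : Mon d I J P).p = 1 := by
    rcases perm_two hI h01 ((w : Mon d I J P).p : Perm I) with h | h
    · exact Subtype.ext h
    · rw [h, Perm.sign_swap h01] at e1; exact absurd e1 (by decide)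
  have hs : (w : Mon d I J P).s = fun _ => true := by
    have e2' : sg ((w : Mon d I J P).s i₀) * sg ((w : Mon d I J P).s i₁) = 1 := by
      have : (Finset.univ : Finset I) = {i₀, i₁} := by
        ext l; simpa using hI l
      rwa [this, Finset.prod_pair h01] at e2
    rw [hR.mem_A] at hA
    have hA' : ¬ ((w : Mon d I J P).s i₀ = false ∧ (w : Mon d I J P).s i₁ = false) := by
      rintro ⟨h1, h2⟩
      exact hA ⟨fun l => by rcases hI l with rfl | rfl <;> assumption, hp⟩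
    have : (w : Mon d I J P).s i₀ = true ∧ (w : Mon d I J P).s i₁ = true := by
      revert e2' hA'
      cases (w : Mon d I J P).s i₀ <;> cases (w : Mon d I J P).s i₁ <;> simp [sg]
    ext l
    rcases hI l with rfl | rfl
    · exact this.1
    · exact this.2
  have hδ : M.δ (ty (fun _ => true) 1) = 1 := by
    have : (ty (fun _ => true) 1 : Mon d I J P) = ty (cI i₀) 1 * ty (fun _ => false) ⟨_, hsw⟩ *
        (ty (cI i₀) 1)⁻¹ * (ty (fun _ => false) ⟨_, hsw⟩)⁻¹ := by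
      ext l
      · simp
      · rcases hI l with rfl | rfl <;> simp [cI, h01, h01.symm]
      · simp
      · simp
    rw [this]; simp [mul_comm]
  have h1 := δ_two (M := M) hI h01 (w : Mon d I J P)
  rw [MonoidHom.mem_ker.1 w.2, hs, hp, hδ, mul_one] at h1
  have h2 : d.N ((w : Mon d I J P).a i₁) = d.N ((w : Mon d I J P).a i₀) := by
    rw [sq, h1] at e3; exact (mul_left_cancel e3).symm
  rw [(hR.mul hR).eq_one_iff]
  refine ⟨d.N ((w : Mon d I J P).a i₀), ?_⟩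
  ext l
  · rcases hI l with rfl | rfl
    · simp [hs, hp, scal, d.ι_N]
    · simp [hs, hp, scal, ← h2, d.ι_N]
  · simp [hs, scal]
  · simp [hp, scal]
  · exact isEmptyElim l

theorem inv_four [Finite B] [IsEmpty J] (hI : ∀ l, l = i₀ ∨ l = i₁) (h01 : i₀ ≠ i₁)
    (hsw : swap i₀ i₁ ∈ P) (h4 : ∀ c : C, c ^ 4 = 1) {u : d.N.ker} (hu2 : (u : B) * u ≠ 1)
    (α : MulAut T) {x₀ : T} (hx₀ : x₀ ∈ M.A) : α x₀ ∈ M.A := by
  haveI : Nonempty I := ⟨i₀⟩
  have h2 : H2 I J := fun i => Or.inr (by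
    rcases hI i with rfl | rfl
    · exact ⟨_, h01.symm⟩
    · exact ⟨_, h01⟩)
  refine mem_A_of_comm (u := u) (Or.inl ⟨hu2, h2⟩) fun i => ?_
  obtain ⟨t, ht⟩ := exists_Ty (M := M) (cI i) 1
  obtain ⟨x, -, hx⟩ := ht.exists_comm h2 u
  have h1 : M.y i u ∈ commutator T := by
    rw [← hx]; exact Subgroup.commutator_mem_commutator (Subgroup.mem_top t) (Subgroup.mem_top x)
  have h3 : α⁻¹ (M.y i u) ∈ commutator T := by
    rw [← hx]
    simp only [map_mul, map_inv]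
    exact Subgroup.commutator_mem_commutator (Subgroup.mem_top _) (Subgroup.mem_top _)
  have h5 : α⁻¹ (M.y i u) ∈ M.A := by
    by_contra h5
    have h6 := commutator_sq hI h01 hsw h4 h3 h5
    rw [← map_mul, map_eq_one_iff _ (α⁻¹).injective, ← map_mul,
      map_eq_one_iff _ (y_inj h2 i)] at h6
    exact hu2 (congrArg Subtype.val h6)
  have h7 := congrArg α (A_comm hx₀ h5)
  simpa using h7

end two

end Mod

end Cfsg.Agent.Ln
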