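import Cfsg.Agent.Ln.Aut2

/-!
Automorphisms permute the reflections; odd order automorphisms are trivial.
-/

set_option autoImplicit false
set_option linter.unusedSectionVars false

namespace Cfsg.Agent.Ln

open Equiv Mon

variable {B C : Type*} [CommGroup B] [CommGroup C]

namespace Mod
variable {d : Dat B C} {I J : Type*} [Fintype I] [Fintype J] {P : Subgroup (Perm I)}
  {T : Type*} [Group T] {M : Mod d I J P T} [DecidableEq I]

variable (M) in
/-- commutators of `t` with the diagonal subgroup -/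
def S (t : T) : Set T := (fun x => t * x * t⁻¹ * x⁻¹) '' (M.A : Set T)

theorem lt_ncard [Finite T] {U : Type*} {X : Set T} {f : U → T} (hf : Function.Injective f)
    (hX : ∀ u, f u ∈ X) {e : T} (he : e ∈ X) (hne : ∀ u, f u ≠ e) : Nat.card U < X.ncard := by
  have h1 : Nat.card U = (Set.range f).ncard := by
    rw [← Nat.card_coe_set_eq]; exact Nat.card_congr (Equiv.ofInjective f hf)
  rw [h1]
  refine Set.ncard_lt_ncard ⟨?_, fun h => ?_⟩
  · rintro _ ⟨u, rfl⟩; exact hX u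
  · obtain ⟨u, hu⟩ := h he; exact hne u hu

theorem big [Finite B] [Finite T] {u₀ : d.N.ker} (hu2 : (u₀ : B) * u₀ ≠ 1) (h3 : H3 I J)
    {g : C} (hg : ∀ c, g ≠ c * c) {t : T} (ht : t ∉ M.A) (hc : ∀ j, ¬ M.Ty t (cI j) 1) :
    Nat.card d.N.ker < (M.S t).ncard := by
  obtain ⟨w, hw⟩ := M.exists_R t
  by_cases hp : ∀ i, (w.p : Perm I)⁻¹ i = i
  · have hs : ∃ i, w.s i = true := by
      by_contra hs
      push Not at hs
      exact ht (hw.mem_A.2 ⟨fun i => by simpa using hs i, p_eq_one hp⟩)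
    obtain ⟨i, hi⟩ := hs
    have hs' : ∃ j, j ≠ i ∧ w.s j = true := by
      by_contra hs
      push Not at hs
      refine hc i ⟨w, hw, funext fun l => ?_, p_eq_one hp⟩
      by_cases hl : l = i
      · simp [cI, hl, hi]
      · simpa [cI, hl] using hs l hl
    obtain ⟨j, hji, hj⟩ := hs'
    have key : ∀ i j : I, i ≠ j → w.s i = true → ∀ u : d.N.ker, ∃ e ∈ M.S t, ∃ b,
        M.R (dg b 1) e ∧ b i = u ∧ b j = 1 := by
      intro i j hij hi u
      obtain ⟨x, hx⟩ := d.h90 (u := u) u.2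
      obtain ⟨a, μ, z, hz, ha, ha'⟩ := comp3 (M := M) h3 hij x
      exact ⟨_, ⟨z, ⟨_, _, hz⟩, rfl⟩, _, hw.comm hz, by simp [cm, hp, hi, ha, hx],
        by simp [cm, hp, ha']⟩
    choose f hfS b hb hbi hbj using key i j hji.symm hi
    obtain ⟨e, he, b', hb', hb1, -⟩ := key j i hji hj u₀
    refine lt_ncard (f := f) (fun u v huv => ?_) hfS he fun u hu => ?_
    · obtain ⟨c, h1, -⟩ := (hb u).ratio (huv ▸ hb v)
      have h2 := h1 j
      rw [hbj, hbj, one_mul] at h2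
      have h4 := h1 i
      rw [hbi, hbi, ← h2, mul_one] at h4
      exact Subtype.ext h4
    · obtain ⟨c, h1, -⟩ := hb'.ratio (hu ▸ hb u)
      have h2 := h1 j
      rw [hb1, hbj, one_mul] at h2
      exact hu2 (d.sq_of_ι u₀.2 h2)
  · push Not at hp
    obtain ⟨i, hi⟩ := hp
    obtain ⟨x, hx⟩ := d.N_surj g
    obtain ⟨a, μ, z, hz, ha, ha'⟩ := comp3 (M := M) h3 hi.symm x
    refine lt_ncard (f := fun u => t * M.y i u * t⁻¹ * (M.y i u)⁻¹) (fun u v huv => ?_)
      (fun u => ⟨_, y_mem_A i u, rfl⟩) ⟨z, ⟨_, _, hz⟩, rfl⟩ fun u hu => ?_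
    · simp only at huv
      obtain ⟨c, h1, h2⟩ := (hw.comm (R_y i u)).ratio (huv ▸ hw.comm (R_y i v))
      have hc1 : d.ι c = 1 := by
        have hi' : i ≠ (w.p : Perm I) i := fun h6 => hi (by rw [Perm.inv_eq_iff_eq]; exact h6)
        rcases h3 i _ hi' with ⟨⟨j⟩⟩ | ⟨l, hl, hl'⟩
        · have := h2 j
          simp only [Pi.one_apply, one_mul] at this
          rw [← this, map_one]
        · have hl2 : (w.p : Perm I)⁻¹ l ≠ i := fun h6 => hl' (by rw [← h6]; simp)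
          have := h1 l
          rw [cm_single_ne hl hl2, cm_single_ne hl hl2, one_mul] at this
          exact this.symm
      have h4 := h1 i
      rw [cm_single_self hi, cm_single_self hi, hc1, mul_one, inv_inj] at h4
      exact Subtype.ext h4
    · simp only at hu
      obtain ⟨c, h1, -⟩ := (hw.comm (R_y i u)).ratio (hu ▸ hw.comm hz)
      have h4 := h1 i
      rw [cm_single_self hi] at h4
      have h5 : w.cm a i = x⁻¹ := by simp only [cm, ha', ha, map_one, one_mul]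
      rw [h5] at h4
      have h6 := congrArg d.N h4
      rw [map_inv, map_mul, map_inv, hx, d.N_ι, MonoidHom.mem_ker.1 u.2, inv_one, eq_comm,
        inv_mul_eq_one] at h6
      exact hg c h6

theorem small [Finite T] {t : T} {i : I} (h : M.Ty t (cI i) 1) [Finite B] :
    (M.S t).ncard ≤ Nat.card d.N.ker := by
  have h1 : M.S t ⊆ Set.range (M.y i) := by
    rintro _ ⟨x, hx, rfl⟩; exact h.comm_mem hx
  refine (Set.ncard_le_ncard h1).trans ?_
  rw [← Nat.card_coe_set_eq]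
  exact Nat.card_le_card_of_surjective _ Set.rangeFactorization_surjective

section aut
variable {α : MulAut T} {r : ℕ}

theorem pow_mem_A (hA : ∀ x ∈ M.A, α x ∈ M.A) (k : ℕ) {x : T} (hx : x ∈ M.A) :
    (α ^ k) x ∈ M.A := by
  induction k with
  | zero => simpa using hx
  | succ k ih => rw [pow_succ', MulAut.mul_apply]; exact hA _ ih

theorem of_mem_A (hr : Odd r) (hα : α ^ r = 1) (hA : ∀ x ∈ M.A, α x ∈ M.A) {x : T}
    (hx : α x ∈ M.A) : x ∈ M.A := by
  obtain ⟨k, rfl⟩ := hr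
  have := pow_mem_A hA (2 * k) hx
  rwa [← MulAut.mul_apply, ← pow_succ, hα, MulAut.one_apply] at this

theorem S_map (hr : Odd r) (hα : α ^ r = 1) (hA : ∀ x ∈ M.A, α x ∈ M.A) (t : T) :
    M.S (α t) = α '' M.S t := by
  ext e
  constructor
  · rintro ⟨x, hx, rfl⟩
    obtain ⟨x, rfl⟩ := α.surjective x
    exact ⟨_, ⟨x, of_mem_A hr hα hA hx, rfl⟩, by simp⟩
  · rintro ⟨_, ⟨x, hx, rfl⟩, rfl⟩
    exact ⟨α x, hA x hx, by simp⟩

theorem refl_gen [Finite B] [Finite T] {u₀ : d.N.ker} (hu2 : (u₀ : B) * u₀ ≠ 1) (h3 : H3 I J)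
    {g : C} (hg : ∀ c, g ≠ c * c) (hr : Odd r) (hα : α ^ r = 1) (hA : ∀ x ∈ M.A, α x ∈ M.A)
    {t : T} {i : I} (h : M.Ty t (cI i) 1) : ∃ j, M.Ty (α t) (cI j) 1 := by
  by_contra hc
  push Not at hc
  have h1 := big hu2 h3 hg (fun h' => h.not_mem_A (of_mem_A hr hα hA h')) hc
  rw [S_map hr hα hA, Set.ncard_image_of_injective _ α.injective] at h1
  exact absurd (small h) (not_le.2 h1)

theorem pow_half {e : ℕ} (hU : ∀ u : B, d.N u = 1 → u ^ (2 * e) = 1) (hC : ∀ c : C, c ^ (2 * e) = 1)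
    {u : B} (hu : d.N u = 1) (c : C) :
    (d.ι c * u) ^ e * (d.ι c * u) ^ e = 1 ∧ d.cj ((d.ι c * u) ^ e) = (d.ι c * u) ^ e := by
  have h1 : u ^ e * u ^ e = 1 := by rw [← pow_add, ← two_mul]; exact hU u hu
  constructor
  · rw [← pow_add, ← two_mul, mul_pow, ← map_pow, hC, hU u hu]; simp
  · rw [mul_pow, map_mul, ← map_pow, d.cj_ι, map_pow d.cj, d.cj_of_N hu, inv_pow,
      inv_eq_of_mul_eq_one_right h1]

theorem refl_four [Finite B] [IsEmpty J] {i₀ i₁ : I} (hI : ∀ l, l = i₀ ∨ l = i₁) (h01 : i₀ ≠ i₁)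
    {e : ℕ} (hU : ∀ u : B, d.N u = 1 → u ^ (2 * e) = 1) (hC : ∀ c : C, c ^ (2 * e) = 1)
    {u₀ : d.N.ker} (hu : u₀ ^ e ≠ 1) (hr : Odd r) (hα : α ^ r = 1) (hA : ∀ x ∈ M.A, α x ∈ M.A)
    {t : T} {i : I} (h : M.Ty t (cI i) 1) : ∃ j, M.Ty (α t) (cI j) 1 := by
  have h2 : H2 I J := fun i => Or.inr (by
    rcases hI i with rfl | rfl
    · exact ⟨_, h01.symm⟩
    · exact ⟨_, h01⟩)
  obtain ⟨x, hx, hx'⟩ := h.exists_comm h2 u₀
  have hb : α t ∉ M.A := fun h' => h.not_mem_A (of_mem_A hr hα hA h')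
  have hb2 : α t * α t ∈ M.A := by rw [← map_mul]; exact hA _ h.sq_mem_A
  have hne : (α t * α x * (α t)⁻¹ * (α x)⁻¹) ^ e ≠ 1 := by
    simp only [← map_mul, ← map_inv, ← map_pow]
    rw [hx', ← map_pow, Ne, map_eq_one_iff _ α.injective, map_eq_one_iff _ (y_inj h2 i)]
    exact hu
  obtain ⟨w, hw⟩ := M.exists_R (α t)
  obtain ⟨a, μ, ha⟩ := hA x hx
  have hN : d.N (a i₀ * a i₁) = 1 := by
    have := ha.δ
    rw [M.δ_dg, prod_two hI h01] at this
    simpa using this
  have hcj := d.cj_of_N hN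
  have fin : ∀ (c : C) (u : B), d.N u = 1 → w.cm a i₀ = d.ι c * u →
      w.cm a i₁ ^ e = (w.cm a i₀ ^ e)⁻¹ ∨ w.cm a i₁ ^ e = (d.cj (w.cm a i₀ ^ e))⁻¹ → False := by
    intro c u hu h1 h3
    obtain ⟨h4, h5⟩ := pow_half hU hC hu c
    rw [← h1] at h4 h5
    rw [h5, or_self, inv_eq_of_mul_eq_one_right h4] at h3
    obtain ⟨c', hc'⟩ := d.fix _ h5
    have h6 := (hw.comm ha).pow e
    rw [dg_pow] at h6
    refine hne (h6.dg_eq_one_iff.2 ⟨c', fun l => ?_, fun j => isEmptyElim j⟩)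
    rcases hI l with rfl | rfl
    · exact hc'.symm
    · exact h3.trans hc'.symm
  rw [(hw.mul hw).mem_A] at hb2
  rw [hw.mem_A] at hb
  have hιN := d.ι_N (a i₀)
  rcases perm_two hI h01 (w.p : Perm I) with hp | hp
  · have hp' : w.p = 1 := Subtype.ext hp
    cases h0 : w.s i₀ <;> cases h1 : w.s i₁
    · exact absurd ⟨fun l => by rcases hI l with rfl | rfl <;> assumption, hp'⟩ hb
    · exact ⟨i₁, w, hw, funext fun l => by
        rcases hI l with rfl | rfl <;> simp [cI, h0, h1, h01], hp'⟩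
    · exact ⟨i₀, w, hw, funext fun l => by
        rcases hI l with rfl | rfl <;> simp [cI, h0, h1, h01.symm], hp'⟩
    · exfalso
      refine fin 1 (d.cj (a i₀) * (a i₀)⁻¹) (d.N_h _) (by simp [cm, hp, h0]) (Or.inl ?_)
      rw [eq_inv_iff_mul_eq_one, ← mul_pow]
      have : w.cm a i₁ * w.cm a i₀ = ((a i₀ * a i₁)⁻¹) ^ 2 := by
        simp only [cm, hp, h0, h1, inv_one, Perm.one_apply, Dat.tw_true]
        rw [sq]; nth_rewrite 1 [← hcj]; simp only [map_mul, mul_inv_rev]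
        apply Additive.ofMul.injective; simp only [ofMul_mul, ofMul_inv]; abel
      rw [this, ← pow_mul]
      exact hU _ (by rw [map_inv, hN, inv_one])
  · exfalso
    have hs : w.s i₁ = w.s i₀ := by
      have := hb2.1 i₀
      simp only [mul_s, hp, swap_inv, swap_apply_left] at this
      revert this; cases w.s i₀ <;> cases w.s i₁ <;> simp
    cases h0 : w.s i₀
    · rw [h0] at hs
      refine fin (d.N (a i₀))⁻¹ (a i₀ * a i₁ * (d.cj (a i₀) * (a i₀)⁻¹))
        (by rw [map_mul, hN, d.N_h, one_mul]) ?_ (Or.inl ?_)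
      · simp only [cm, hp, h0, swap_inv, swap_apply_left, Dat.tw_false, map_inv, hιN]
        apply Additive.ofMul.injective; simp only [ofMul_mul, ofMul_inv]; abel
      · rw [← inv_pow]; congr 1
        simp [cm, hp, h0, hs]
    · rw [h0] at hs
      refine fin (d.N (a i₀))⁻¹ (d.cj (a i₀ * a i₁)) (by rw [d.N_cj, hN]) ?_ (Or.inr ?_)
      · simp only [cm, hp, h0, swap_inv, swap_apply_left, Dat.tw_true, map_inv, hιN, map_mul]
        apply Additive.ofMul.injective; simp only [ofMul_mul, ofMul_inv]; abel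
      · rw [map_pow, ← inv_pow]; congr 1
        simp [cm, hp, h0, hs, d.cj_cj]

theorem cI_inj {i j : I} (h : cI i = cI j) : i = j := by
  have := congrFun h i
  simpa [cI] using this

theorem Ty.conj {t u : T} {s : I → Bool} {p : P} {i : I} (h : M.Ty u s p) (h' : M.Ty t (cI i) 1) :
    M.Ty (u * t * u⁻¹) (cI ((p : Perm I) i)) 1 := by
  obtain ⟨w, hw, rfl, rfl⟩ := h
  obtain ⟨v, hv, hs, hp⟩ := h'
  refine ⟨_, (hw.mul hv).mul hw.inv, funext fun l => ?_, by simp [hp]⟩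
  have h1 : (w.p : Perm I) ((w.p : Perm I)⁻¹ l) = l := by simp
  have : ((w.p : Perm I)⁻¹ l = i) ↔ (l = (w.p : Perm I) i) := Perm.inv_eq_iff_eq
  simp only [mul_s, inv_s, mul_p, hp, mul_one, hs, cI, h1, this]
  cases w.s l <;> simp

theorem Ty.map_of (hA : ∀ x ∈ M.A, α x ∈ M.A) {t u : T} {s s' : I → Bool} {p p' : P}
    (h : M.Ty t s p) (h' : M.Ty u s p) (h1 : M.Ty (α u) s' p') : M.Ty (α t) s' p' := by
  have := h1.of_A (hA _ (h.mem_A h'))
  simpa using this

theorem refl_fix [Nonempty I]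
    (hP : ∀ π : Perm I, ∀ r : ℕ, Odd r → π ^ r = 1 → (∀ p ∈ P, π * p * π⁻¹ ∈ P) → π = 1)
    (hr : Odd r) (hα : α ^ r = 1) (hA : ∀ x ∈ M.A, α x ∈ M.A)
    (h : ∀ t i, M.Ty t (cI i) 1 → ∃ j, M.Ty (α t) (cI j) 1) {t : T} {i : I}
    (ht : M.Ty t (cI i) 1) : M.Ty (α t) (cI i) 1 := by
  choose τ hτ using fun i => exists_Ty (M := M) (cI i) 1
  choose f hf using fun i => h (τ i) i (hτ i)
  have hf' : ∀ t i, M.Ty t (cI i) 1 → M.Ty (α t) (cI (f i)) 1 :=
    fun t i ht => Ty.map_of hA ht (hτ i) (hf i)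
  have hk : ∀ k : ℕ, ∀ i, M.Ty ((α ^ k) (τ i)) (cI (f^[k] i)) 1 := by
    intro k i
    induction k with
    | zero => simpa using hτ i
    | succ k ih => rw [pow_succ', MulAut.mul_apply, Function.iterate_succ_apply']; exact hf' _ _ ih
  have hr' : ∀ i, f^[r] i = i := fun i => by
    have := hk r i
    rw [hα, MulAut.one_apply] at this
    exact cI_inj (this.uniq (hτ i)).1
  have hinj : Function.Injective f := by
    obtain ⟨k, rfl⟩ := hr
    intro i j hij
    rw [← hr' i, ← hr' j, Function.iterate_add_apply, Function.iterate_add_apply,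
      Function.iterate_one, hij]
  let π : Perm I := Equiv.ofBijective f (Finite.injective_iff_bijective.1 hinj)
  have hπ : ∀ i, π i = f i := fun i => rfl
  have h1 : π = 1 := by
    refine hP π r hr ?_ fun p hp => ?_
    · ext i
      rw [Perm.coe_pow, show (π : I → I) = f from rfl, hr' i]; rfl
    · obtain ⟨u, hu⟩ := exists_Ty (M := M) (fun _ => false) ⟨p, hp⟩
      obtain ⟨w, hw⟩ := M.exists_R (α u)
      have : π * p * π⁻¹ = w.p := by
        rw [mul_inv_eq_iff_eq_mul]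
        ext i
        have h2 := hf' _ _ (hu.conj (hτ i))
        have h3 := Ty.conj ⟨w, hw, rfl, rfl⟩ (hf i)
        simp only [map_mul, map_inv] at h2
        exact cI_inj (h2.uniq h3).1
      rw [this]; exact w.p.2
  have := hf' t i ht
  rwa [← hπ, h1] at this

end aut

end Mod

end Cfsg.Agent.Ln
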