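import Cfsg.Agent.Ln.Aut3

/-!
Odd order automorphisms of the projective special monomial 2-groups are trivial.
-/

set_option autoImplicit false
set_option linter.unusedSectionVars false

namespace Cfsg.Agent.Ln

open Equiv Mon

variable {B C : Type*} [CommGroup B] [CommGroup C]

namespace Mod
variable {d : Dat B C} {I J : Type*} [Fintype I] [Fintype J] {P : Subgroup (Perm I)}
  {T : Type*} [Group T] {M : Mod d I J P T} [DecidableEq I] {α : MulAut T} {r : ℕ}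

theorem eq_one_of_fix_A (hT : IsPGroup 2 T) (hr : Odd r) (hα : α ^ r = 1) {u : d.N.ker}
    (hu : ((u : B) * u ≠ 1 ∧ H2 I J) ∨ (u : B) ^ 4 ≠ 1) (h : ∀ x ∈ M.A, α x = x) : α = 1 := by
  ext t
  refine fix_of_cocycle hT hr hα (h _ ?_)
  have h1 : t⁻¹ * α t ∈ M.A := by
    refine mem_A_of_comm hu fun i => ?_
    have h2 := h _ (conj_mem_A t (y_mem_A i u))
    rw [map_mul, map_mul, map_inv, h _ (y_mem_A i u)] at h2
    calc t⁻¹ * α t * M.y i u = t⁻¹ * (α t * M.y i u * (α t)⁻¹) * α t := by group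
      _ = M.y i u * (t⁻¹ * α t) := by rw [h2]; group
  simpa [mul_assoc] using conj_mem_A t h1

theorem fix_y [Finite B] [Nonempty I] (hT : IsPGroup 2 T) (hr : Odd r) (hα : α ^ r = 1)
    (h2 : H2 I J) {u₀ : d.N.ker} (hu : ∀ u, u ∈ Subgroup.zpowers u₀) (hA : ∀ x ∈ M.A, α x ∈ M.A)
    (h : ∀ t i, M.Ty t (cI i) 1 → M.Ty (α t) (cI i) 1) (i : I) (u : d.N.ker) :
    α (M.y i u) = M.y i u := by
  refine fix_range hT hr hα (M.y i) hu ?_ u
  obtain ⟨t, ht⟩ := exists_Ty (M := M) (cI i) 1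
  obtain ⟨x, hx, hx'⟩ := ht.exists_comm h2 u₀
  rw [← hx']
  simp only [map_mul, map_inv]
  exact (h t i ht).comm_mem (hA x hx)

theorem fix_dg (hy : ∀ i u, α (M.y i u) = M.y i u) (s : Finset I) :
    ∀ (a : I → B) (f : T), (∀ i, d.N (a i) = 1) → (∀ i, i ∉ s → a i = 1) → M.R (dg a 1) f →
      α f = f := by
  induction s using Finset.induction_on with
  | empty =>
    intro a f _ h2 h3
    have : a = 1 := funext fun i => h2 i (by simp)
    rw [this, dg_one] at h3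
    rw [h3.uniq R.one, map_one]
  | insert i s hi ih =>
    intro a f h1 h2 h3
    have h4 := (R_y (M := M) i ⟨a i, h1 i⟩).inv.mul h3
    rw [dg_inv, dg_mul, inv_one, one_mul] at h4
    have h5 := ih _ _ (fun l => ?_) (fun l hl => ?_) h4
    · rw [map_mul, map_inv, hy] at h5
      exact mul_left_cancel h5
    · by_cases hl : l = i
      · subst hl; simp
      · simp [Pi.mulSingle_eq_of_ne hl, h1]
    · by_cases hl' : l = i
      · subst hl'; simp
      · simp [Pi.mulSingle_eq_of_ne hl', h2 l (by simp [hl, hl'])]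

theorem fix_A [Finite B] [Nonempty I] [IsCyclic C] [Subsingleton J] (hT : IsPGroup 2 T)
    (hr : Odd r) (hα : α ^ r = 1) (h2 : H2 I J) (hA : ∀ x ∈ M.A, α x ∈ M.A)
    (h : ∀ t i, M.Ty t (cI i) 1 → M.Ty (α t) (cI i) 1) (hy : ∀ i u, α (M.y i u) = M.y i u)
    {x : T} (hx : x ∈ M.A) : α x = x := by
  let E : T → Prop := fun f => ∃ x ∈ M.A, f = α x * x⁻¹
  have hEA : ∀ f, E f → f ∈ M.A := by
    rintro _ ⟨x, hx, rfl⟩; exact mul_mem (hA x hx) (inv_mem hx)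
  have hEmul : ∀ f g, E f → E g → E (f * g) := by
    rintro _ _ ⟨x, hx, rfl⟩ ⟨z, hz, rfl⟩
    refine ⟨x * z, mul_mem hx hz, ?_⟩
    have := A_comm (inv_mem hx) (mul_mem (hA z hz) (inv_mem hz))
    rw [map_mul, mul_assoc, this]; group
  have hEpow : ∀ f (k : ℕ), E f → E (f ^ k) := by
    intro f k hf
    induction k with
    | zero => exact ⟨1, one_mem _, by simp⟩
    | succ k ih => rw [pow_succ]; exact hEmul _ _ ih hf
  have hEα : ∀ f, E f → E (α f) := by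
    rintro _ ⟨x, hx, rfl⟩; exact ⟨α x, hA x hx, by simp⟩
  have hEfix : ∀ f, E f → α f = f → f = 1 := by
    rintro _ ⟨x, -, rfl⟩ hf
    rw [fix_of_cocycle hT hr hα hf, mul_inv_cancel]
  have hEc : ∀ f t i, E f → M.Ty t (cI i) 1 → t * f * t⁻¹ * f⁻¹ = 1 := by
    rintro _ t i ⟨x, hx, rfl⟩ ht
    obtain ⟨u, hu⟩ := ht.comm_mem hx
    have h1 : α (t * x * t⁻¹ * x⁻¹) = t * x * t⁻¹ * x⁻¹ := by rw [← hu, hy]
    have h3 := (h t i ht).mem_A ht
    have h4 := A_comm h3 (conj_mem_A t (hA x hx))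
    have h5 : α t * α x * (α t)⁻¹ = t * α x * t⁻¹ := by
      calc α t * α x * (α t)⁻¹ = (α t * t⁻¹ * (t * α x * t⁻¹)) * (α t * t⁻¹)⁻¹ := by group
        _ = t * α x * t⁻¹ := by rw [h4]; group
    simp only [map_mul, map_inv] at h1
    rw [h5] at h1
    have h6 := A_comm (comm_mem_A t hx) (hA x hx)
    have h7 := A_comm (hA x hx) (inv_mem hx)
    calc t * (α x * x⁻¹) * t⁻¹ * (α x * x⁻¹)⁻¹
        = (t * α x * t⁻¹ * (α x)⁻¹) * α x * (t * x⁻¹ * t⁻¹) * (α x * x⁻¹)⁻¹ := by group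
      _ = (t * x * t⁻¹ * x⁻¹) * α x * (t * x⁻¹ * t⁻¹) * (α x * x⁻¹)⁻¹ := by rw [h1]
      _ = (t * x * t⁻¹) * (α x * x⁻¹) * (t * x⁻¹ * t⁻¹) * (α x * x⁻¹)⁻¹ := by rw [h7]; group
      _ = (α x * x⁻¹) * (t * x * t⁻¹) * (t * x⁻¹ * t⁻¹) * (α x * x⁻¹)⁻¹ := by
          rw [A_comm (conj_mem_A t hx) (mul_mem (hA x hx) (inv_mem hx))]
      _ = 1 := by group
  let Z : Subgroup C := (M.δ.comp scalH).ker
  have hlift : ∀ f, E f → f * f = 1 → ∃ (l : I → C) (μ : J → C) (ν : Z),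
      M.R (dg (fun i => d.ι (l i)) μ) f ∧ (∀ i, l i * l i = ν) ∧ ∀ j, μ j * μ j = ν := by
    intro f hf hff
    obtain ⟨a, μ, ha⟩ := hEA f hf
    have h1 : ∀ i, ∃ c, d.ι c = a i := by
      intro i
      obtain ⟨t, ht⟩ := exists_Ty (M := M) (cI i) 1
      have h3 := hEc f t i hf ht
      obtain ⟨w, hw, hs, hp⟩ := ht
      have h4 := hw.comm ha
      rw [cm_cI hs hp] at h4
      obtain ⟨c, h5, h6⟩ := h4.dg_eq_one_iff.1 h3
      exact d.fix _ (mul_inv_eq_one.1 (single_scal h2 h5 h6))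
    choose l hl using h1
    have h3 := ha.mul ha
    obtain ⟨ν, hν⟩ := h3.eq_one_iff.1 hff
    have h4 : ν ∈ Z := by
      have := h3.δ
      rw [hν] at this
      exact this
    rw [dg_mul] at hν
    refine ⟨l, μ, ⟨ν, h4⟩, by rw [funext hl]; exact ha, fun i => d.ι_inj ?_,
      fun j => congrFun (congrArg Mon.μ hν) j⟩
    rw [map_mul, hl]; exact congrFun (congrArg Mon.a hν) i
  have hsq : ∀ f (l : I → C) (μ : J → C) (ζ : Z), M.R (dg (fun i => d.ι (l i)) μ) f →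
      (∀ i, l i * l i = ζ * ζ) → α f = f := by
    intro f l μ ζ hf hl
    obtain ⟨o, ho⟩ := exists_R' (M := M) (w := scal (ζ : C)) ζ.2
    have ho1 : o = 1 := ho.eq_one_iff.2 ⟨_, rfl⟩
    subst ho1
    have h1 := hf.mul ho.inv
    rw [scal, dg_inv, dg_mul, inv_one, mul_one] at h1
    have hN : ∀ i, d.N (((fun i => d.ι (l i)) * (fun _ => d.ι (ζ : C))⁻¹ : I → B) i) = 1 := by
      intro i
      simp only [Pi.mul_apply, Pi.inv_apply, map_mul, map_inv, d.N_ι, hl, mul_inv_cancel]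
    have hμ : μ * (fun _ => (ζ : C))⁻¹ = 1 := by
      have h3 := h1.δ
      rw [M.δ_dg, Finset.prod_eq_one (fun i _ => hN i), one_mul] at h3
      ext j
      rw [Finset.prod_eq_single j (fun j' _ hj => absurd (Subsingleton.elim _ _) hj)
        (by simp)] at h3
      exact h3
    rw [hμ] at h1
    exact fix_dg hy Finset.univ _ f hN (by simp) h1
  by_contra hne
  have hE : E (α x * x⁻¹) := ⟨x, hx, rfl⟩
  obtain ⟨k, hk1, hk2⟩ := exists_pow_sq hT ⊥ (t := α x * x⁻¹) (by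
    rw [Subgroup.mem_bot, mul_inv_eq_one]; exact hne)
  rw [Subgroup.mem_bot] at hk1 hk2
  have hf := hEpow _ k hE
  generalize (α x * x⁻¹) ^ k = f at *
  have hk3 : α f * α f = 1 := by rw [← map_mul, hk2, map_one]
  obtain ⟨l, μ, ν, h3, h4, -⟩ := hlift f hf hk2
  obtain ⟨l', μ', ν', h3', h4', -⟩ := hlift (α f) (hEα f hf) hk3
  obtain ⟨g, hg⟩ := IsCyclic.exists_generator (α := Z)
  obtain ⟨m, rfl⟩ := hg ν
  obtain ⟨m', rfl⟩ := hg ν'
  have hzz : ∀ k : ℤ, ((g ^ (2 * k) : Z) : C) = (g ^ k : Z) * (g ^ k : Z) := fun k => by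
    rw [← Subgroup.coe_mul, ← zpow_add, two_mul]
  rcases Int.even_or_odd' m with ⟨n, rfl | rfl⟩
  · exact hk1 (hEfix f hf (hsq f l μ (g ^ n) h3 fun i => (h4 i).trans (hzz n)))
  rcases Int.even_or_odd' m' with ⟨n', rfl | rfl⟩
  · have := hEfix _ (hEα f hf) (hsq _ l' μ' (g ^ n') h3' fun i => (h4' i).trans (hzz n'))
    exact hk1 ((map_eq_one_iff _ α.injective).1 this)
  · have h5 := h3.mul h3'
    rw [dg_mul] at h5
    have h6 : ((fun i => d.ι (l i)) * fun i => d.ι (l' i) : I → B) = fun i => d.ι (l i * l' i) := by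
      ext i; simp
    rw [h6] at h5
    have h7 := hEfix _ (hEmul _ _ hf (hEα f hf)) (hsq _ _ _ (g ^ (n + n' + 1)) h5 fun i => by
      rw [mul_mul_mul_comm, h4, h4', ← hzz, ← Subgroup.coe_mul]
      simp only
      rw [← zpow_add]; congr 2; ring)
    exact hk1 (hEfix f hf (mul_left_cancel (h7.trans hk2.symm)))

theorem rank_one [IsEmpty J] {i₀ : I} (hI : ∀ l, l = i₀) (hT : IsPGroup 2 T) (hr : Odd r)
    (hα : α ^ r = 1) {u₀ : d.N.ker} (hu : ∀ u, u ∈ Subgroup.zpowers u₀) (hu4 : (u₀ : B) ^ 4 ≠ 1)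
    {x : T} (hx : x ∈ M.A) : α x = x := by
  have hprod : ∀ f : I → C, ∏ i, f i = f i₀ := fun f =>
    Finset.prod_eq_single i₀ (fun l _ hl => absurd (hI l) hl) (by simp)
  have hA : ∀ x ∈ M.A, x ∈ (M.y i₀).range := by
    rintro x ⟨a, μ, h⟩
    have h1 := h.δ
    rw [M.δ_dg, hprod] at h1
    refine ⟨⟨a i₀, by simpa using h1⟩, (R_y i₀ _).uniq ?_⟩
    convert h using 2
    ext l; rw [hI l]; simp
  have hsq : ∀ t, t ∉ M.A → t * t = 1 := by
    intro t ht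
    obtain ⟨w, hw⟩ := M.exists_R t
    have hp : w.p = 1 := p_eq_one fun i => (hI _).trans (hI _).symm
    have hs : w.s i₀ = true := by
      by_contra hs
      exact ht (hw.mem_A.2 ⟨fun l => by rw [hI l]; simpa using hs, hp⟩)
    rw [(hw.mul hw).eq_one_iff]
    refine ⟨d.N (w.a i₀), ?_⟩
    ext l
    · rw [hI l]; simp [hs, hp, scal, d.ι_N]
    · simp [hp, scal]
    · simp [hp, scal]
    · exact isEmptyElim l
  obtain ⟨u, rfl⟩ := hA x hx
  refine fix_range hT hr hα (M.y i₀) hu (hA _ ?_) u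
  by_contra h
  have h1 := hsq _ h
  rw [← map_mul, map_eq_one_iff _ α.injective, ← map_mul] at h1
  obtain ⟨c, h2, -⟩ := (R_y i₀ (u₀ * u₀)).dg_eq_one_iff.1 h1
  have h3 := h2 i₀
  rw [Pi.mulSingle_eq_same] at h3
  exact hu4 (by rw [pow_four]; exact d.sq_of_ι (u₀ * u₀).2 h3)

theorem aut_eq_one (M : Mod d I J P T) [Finite B] [Finite T] [Nonempty I] [IsCyclic C]
    [IsCyclic d.N.ker] [Subsingleton J] (hT : IsPGroup 2 T) (hB : IsPGroup 2 B)
    (hu2 : ∃ u : B, d.N u = 1 ∧ u * u ≠ 1) (hu4 : ¬ H2 I J → ∃ u : B, d.N u = 1 ∧ u ^ 4 ≠ 1)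
    (hCU : ∀ c : C, c ^ Nat.card d.N.ker = 1)
    (hP : ∀ π : Perm I, ∀ r : ℕ, Odd r → π ^ r = 1 → (∀ p ∈ P, π * p * π⁻¹ ∈ P) → π = 1)
    (hsw : ∀ i₀ i₁ : I, i₀ ≠ i₁ → (∀ l, l = i₀ ∨ l = i₁) → swap i₀ i₁ ∈ P)
    (hr : Odd r) (hα : α ^ r = 1) : α = 1 := by
  haveI : Finite C := Finite.of_injective _ d.ι_inj
  obtain ⟨u₀, hu⟩ := IsCyclic.exists_generator (α := d.N.ker)
  have hgen : ∀ k : ℕ, (u₀ : B) ^ k = 1 → ∀ u : B, d.N u = 1 → u ^ k = 1 := by
    intro k hk u hN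
    obtain ⟨m, hm⟩ := hu ⟨u, hN⟩
    have : u = (u₀ : B) ^ m := by simpa using (congrArg Subtype.val hm).symm
    rw [this, ← zpow_natCast, ← zpow_mul, mul_comm, zpow_mul, zpow_natCast, hk, one_zpow]
  have h0 : (u₀ : B) * u₀ ≠ 1 := fun h => by
    obtain ⟨u, h1, h2⟩ := hu2
    exact h2 (by rw [← sq]; exact hgen 2 (by rw [sq, h]) u h1)
  by_cases h2 : H2 I J
  swap
  · have h4 : (u₀ : B) ^ 4 ≠ 1 := fun h => by
      obtain ⟨u, h1, h3⟩ := hu4 h2
      exact h3 (hgen 4 h u h1)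
    unfold H2 at h2
    push Not at h2
    obtain ⟨i₀, hJ, hI⟩ := h2
    exact eq_one_of_fix_A (M := M) hT hr hα (Or.inr h4) fun x hx => rank_one hI hT hr hα hu h4 hx
  have hord : orderOf u₀ = Nat.card d.N.ker := orderOf_eq_card_of_forall_mem_zpowers hu
  obtain ⟨e, he⟩ : ∃ e, Nat.card d.N.ker = 2 * e := by
    obtain ⟨k, hk⟩ := (hB.to_subgroup d.N.ker).exists_card_eq
    rcases k with _ | k
    · rw [hk, pow_zero, orderOf_eq_one_iff] at hord
      exact absurd (by simp [hord]) h0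
    · exact ⟨2 ^ k, by rw [hk, pow_succ']⟩
  have he0 : 0 < e := by have := Nat.card_pos (α := d.N.ker); omega
  have hue : u₀ ^ e ≠ 1 := pow_ne_one_of_lt_orderOf he0.ne' (by omega)
  have hU : ∀ u : B, d.N u = 1 → u ^ (2 * e) = 1 := hgen _ (by
    rw [← he, ← hord, ← Subgroup.coe_pow, pow_orderOf_eq_one, Subgroup.coe_one])
  have hg : ∃ g : C, ∀ c, g ≠ c * c := by
    by_contra hg
    push Not at hg
    have hs : Function.Surjective (fun c : C => c * c) := fun g => (hg g).imp fun c hc => hc.symm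
    have hi := Finite.injective_iff_surjective.2 hs
    have h1 : (u₀ : B) ^ e * (u₀ : B) ^ e = 1 := by rw [← pow_add, ← two_mul]; exact hU _ u₀.2
    obtain ⟨c, hc⟩ := d.fix ((u₀ : B) ^ e) (by
      rw [map_pow, d.cj_of_N u₀.2, inv_pow, inv_eq_of_mul_eq_one_right h1])
    have h3 : c = 1 := hi (d.ι_inj (by simp only [map_mul, hc, h1, map_one, one_mul]))
    apply hue
    apply Subtype.ext
    rw [Subgroup.coe_pow, ← hc, h3, map_one, Subgroup.coe_one]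
  obtain ⟨g, hg⟩ := hg
  have hA : (∀ x ∈ M.A, α x ∈ M.A) ∧ ((∀ x ∈ M.A, α x ∈ M.A) →
      ∀ t i, M.Ty t (cI i) 1 → ∃ j, M.Ty (α t) (cI j) 1) := by
    by_cases h3 : H3 I J
    · exact ⟨fun x hx => inv_gen hT h0 h2 (Or.inr h3) α hx,
        fun hA t i ht => refl_gen h0 h3 hg hr hα hA ht⟩
    · unfold H3 at h3
      push Not at h3
      obtain ⟨i₀, i₁, h01, hJ, hI⟩ := h3
      have hI' : ∀ l, l = i₀ ∨ l = i₁ := fun l => or_iff_not_imp_left.2 (hI l)
      refine ⟨fun x hx => ?_, fun hA t i ht => refl_four hI' h01 hU (he ▸ hCU) hue hr hα hA ht⟩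
      by_cases h4 : (u₀ : B) ^ 4 = 1
      · refine inv_four hI' h01 (hsw _ _ h01 hI') (fun c => ?_) h0 α hx
        have h5 : Nat.card d.N.ker ∣ 4 := by
          rw [← hord]; exact orderOf_dvd_of_pow_eq_one (Subtype.ext h4)
        obtain ⟨k, hk⟩ := h5
        rw [hk, pow_mul, hCU, one_pow]
      · exact inv_gen hT h0 h2 (Or.inl h4) α hx
  have hfix : ∀ t i, M.Ty t (cI i) 1 → M.Ty (α t) (cI i) 1 :=
    fun t i ht => refl_fix hP hr hα hA.1 (hA.2 hA.1) ht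
  exact eq_one_of_fix_A (M := M) hT hr hα (Or.inl ⟨h0, h2⟩) fun x hx =>
    fix_A hT hr hα h2 hA.1 hfix (fix_y hT hr hα h2 hu hA.1 hfix) hx

end Mod

end Cfsg.Agent.Ln
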