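import Cfsg.Agent.Ln.Aut2

/-!
A Sylow 2-subgroup of a symmetric group is not normalised by elements of odd order.
-/

set_option autoImplicit false
set_option linter.unusedSectionVars false

namespace Cfsg.Agent.Ln

open Equiv Mon

/-- trivial data -/
def dat0 : Dat Unit Unit where
  cj := MonoidHom.id _
  cj_cj _ := rfl
  ι := MonoidHom.id _
  ι_inj _ _ _ := rfl
  cj_ι _ := rfl
  fix _ _ := ⟨(), rfl⟩
  N := MonoidHom.id _
  ι_N _ := rfl
  N_surj _ := ⟨(), rfl⟩

section
variable {I : Type} (J : Type) {P : Subgroup (Perm I)}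

/-- the imprimitive action -/
def wact (w : Mon dat0 I Empty P) : (I × Bool) ⊕ J → (I × Bool) ⊕ J
  | Sum.inl x => Sum.inl ((w.p : Perm I) x.1, xor (w.s ((w.p : Perm I) x.1)) x.2)
  | Sum.inr j => Sum.inr j

/-- the imprimitive action as a homomorphism -/
def whom : Mon dat0 I Empty P →* Perm ((I × Bool) ⊕ J) :=
  MonoidHom.toHomPerm
    { toFun := fun w => (wact J w : Function.End _)
      map_one' := by
        funext x
        show _ = x
        rcases x with ⟨i, b⟩ | j <;> simp [wact]
      map_mul' := fun w v => by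
        funext x
        show _ = wact J w (wact J v x)
        rcases x with ⟨i, b⟩ | j <;> simp [wact] }

variable {J}
theorem whom_inl (w : Mon dat0 I Empty P) (i : I) (b : Bool) : whom J w (Sum.inl (i, b)) =
    Sum.inl ((w.p : Perm I) i, xor (w.s ((w.p : Perm I) i)) b) := rfl
theorem whom_inr (w : Mon dat0 I Empty P) (j : J) : whom J w (Sum.inr j) = Sum.inr j := rfl

theorem whom_inj : Function.Injective (whom J : Mon dat0 I Empty P →* _) := by
  rw [injective_iff_map_eq_one]
  intro w hw
  have h : ∀ i, (w.p : Perm I) i = i ∧ w.s ((w.p : Perm I) i) = false := fun i => by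
    have := whom_inl (J := J) w i false
    rw [hw] at this
    simp only [Perm.one_apply, Sum.inl.injEq, Prod.mk.injEq, Bool.xor_false] at this
    exact ⟨this.1.symm, this.2.symm⟩
  ext i
  · have := (h i).2; rw [(h i).1] at this; simp [this]
  · simp [(h i).1]

theorem whom_norm [Fintype I] [DecidableEq I] [Subsingleton J]
    (hP : ∀ π : Perm I, ∀ r : ℕ, Odd r → π ^ r = 1 → (∀ p ∈ P, π * p * π⁻¹ ∈ P) → π = 1)
    (π : Perm ((I × Bool) ⊕ J)) (r : ℕ) (hr : Odd r) (hπ : π ^ r = 1)
    (h : ∀ p ∈ (whom J : Mon dat0 I Empty P →* _).range,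
      π * p * π⁻¹ ∈ (whom J : Mon dat0 I Empty P →* _).range) : π = 1 := by
  classical
  have key : ∀ i, ∃ j, ∀ b, ∃ b', π (Sum.inl (i, b)) = Sum.inl (j, b') := by
    intro i
    have h1 : whom J (ty (Mod.cI i) 1 : Mon dat0 I Empty P) =
        swap (Sum.inl (i, false)) (Sum.inl (i, true)) := by
      ext x
      rcases x with ⟨l, b⟩ | j
      · rw [whom_inl]
        by_cases hl : l = i
        · subst hl; cases b <;> simp [Mod.cI]
        · rw [swap_apply_of_ne_of_ne (by simp [hl]) (by simp [hl])]; simp [Mod.cI, hl]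
      · rw [whom_inr, swap_apply_of_ne_of_ne (by simp) (by simp)]
    obtain ⟨w, hw⟩ := h _ ⟨_, h1⟩
    rw [← swap_apply_apply] at hw
    have hne : π (Sum.inl (i, false)) ≠ π (Sum.inl (i, true)) := by simp
    have h2 : whom J w (π (Sum.inl (i, false))) = π (Sum.inl (i, true)) := by rw [hw]; simp
    rcases hx : π (Sum.inl (i, false)) with ⟨j, b⟩ | j
    · rw [hx, whom_inl] at h2
      have h3 : (w.p : Perm I) j = j := by
        by_contra h3
        have h4 := whom_inl (J := J) w j (!b)
        rw [hw, swap_apply_of_ne_of_ne (by rw [hx]; simp) (by rw [← h2]; simp [Ne.symm h3])] at h4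
        simp only [Sum.inl.injEq, Prod.mk.injEq] at h4
        exact h3 h4.1.symm
      refine ⟨j, fun c => ?_⟩
      cases c
      · exact ⟨b, hx⟩
      · exact ⟨_, by rw [← h2, h3]⟩
    · rw [hx, whom_inr] at h2
      exact absurd (hx.trans h2) hne
  choose f g hf using key
  have hk : ∀ k : ℕ, ∀ i b, ∃ b', (π ^ k) (Sum.inl (i, b)) = Sum.inl (f^[k] i, b') := by
    intro k i b
    induction k with
    | zero => exact ⟨b, rfl⟩
    | succ k ih =>
      obtain ⟨b', hb'⟩ := ih
      exact ⟨_, by rw [pow_succ', Perm.mul_apply, hb', hf, Function.iterate_succ_apply']⟩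
  have hr' : ∀ i, f^[r] i = i := fun i => by
    obtain ⟨b', hb'⟩ := hk r i false
    rw [hπ] at hb'
    simp only [Perm.one_apply, Sum.inl.injEq, Prod.mk.injEq] at hb'
    exact hb'.1.symm
  have hinj : Function.Injective f := by
    obtain ⟨k, rfl⟩ := hr
    intro i j hij
    rw [← hr' i, ← hr' j, Function.iterate_add_apply, Function.iterate_add_apply,
      Function.iterate_one, hij]
  let π₁ : Perm I := Equiv.ofBijective f (Finite.injective_iff_bijective.1 hinj)
  have h1 : π₁ = 1 := by
    refine hP π₁ r hr ?_ fun p hp => ?_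
    · ext i
      rw [Perm.coe_pow, show (π₁ : I → I) = f from rfl, hr' i]; rfl
    · obtain ⟨w, hw⟩ := h _ ⟨ty (fun _ => false) ⟨p, hp⟩, rfl⟩
      have : π₁ * p * π₁⁻¹ = w.p := by
        rw [mul_inv_eq_iff_eq_mul]
        ext i
        rw [eq_mul_inv_iff_mul_eq] at hw
        have h2 := congrArg (fun σ : Perm _ => σ (Sum.inl (i, false))) hw
        simp only [Perm.mul_apply, hf, whom_inl, ty_p, Sum.inl.injEq, Prod.mk.injEq] at h2
        exact h2.1.symm
      rw [this]; exact w.p.2
  have hf1 : ∀ i, f i = i := fun i => congrArg (fun σ : Perm I => σ i) h1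
  have hg : ∀ i b, g i (g i b) = b := by
    intro i b
    have : g i false ≠ g i true := fun h2 => by
      have h3 : π (Sum.inl (i, false)) = π (Sum.inl (i, true)) := by rw [hf, hf, h2]
      simp at h3
    revert this
    cases b <;> cases h3 : g i false <;> cases h4 : g i true <;> simp [h3, h4]
  have h2 : ∀ i b, π (π (Sum.inl (i, b))) = Sum.inl (i, b) := fun i b => by
    rw [hf, hf1, hf, hf1, hg]
  have h3 : ∀ j, π (Sum.inr j) = Sum.inr j := by
    intro j
    rcases hx : π (Sum.inr j) with ⟨i, b⟩ | j'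
    · rw [← h2] at hx
      have := π.injective hx
      rw [hf] at this
      simp at this
    · rw [Subsingleton.elim j' j]
  have h4 : π ^ 2 = 1 := by
    ext x
    rcases x with ⟨i, b⟩ | j
    · exact h2 i b
    · rw [sq, Perm.mul_apply, h3, h3]; rfl
  obtain ⟨k, rfl⟩ := hr
  rwa [pow_succ, pow_mul, h4, one_pow, one_mul] at hπ

end

theorem exists_perm (m : ℕ) : ∃ (I : Type) (_ : Fintype I) (_ : DecidableEq I)
    (P : Subgroup (Perm I)), Fintype.card I = m ∧ Nat.card P = 2 ^ padicValNat 2 m.factorial ∧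
    ∀ π : Perm I, ∀ r : ℕ, Odd r → π ^ r = 1 → (∀ p ∈ P, π * p * π⁻¹ ∈ P) → π = 1 := by
  induction m using Nat.strong_induction_on with
  | _ m ih =>
    rcases Nat.eq_zero_or_pos m with rfl | hm
    · exact ⟨Empty, inferInstance, inferInstance, ⊥, rfl, by simp, fun π _ _ _ _ => Subsingleton.elim _ _⟩
    obtain ⟨I, _, _, P, h1, h2, h3⟩ := ih (m / 2) (by omega)
    have hm2 : m % 2 < 2 := Nat.mod_lt _ two_pos
    haveI : Subsingleton (Fin (m % 2)) := ⟨fun a b => Fin.ext (by have := a.2; have := b.2; omega)⟩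
    refine ⟨(I × Bool) ⊕ Fin (m % 2), inferInstance, inferInstance,
      (whom (Fin (m % 2)) : Mon dat0 I Empty P →* _).range, ?_, ?_, whom_norm h3⟩
    · simp [h1]; omega
    · rw [← Nat.card_congr (MonoidHom.ofInjective whom_inj).toEquiv, Mon.card_eq, h2, h1]
      haveI : Fact (Nat.Prime 2) := ⟨Nat.prime_two⟩
      conv_rhs => rw [← Nat.div_add_mod m 2, padicValNat_factorial_mul_add _ hm2,
        padicValNat_factorial_mul]
      simp [pow_add, mul_comm]

end Cfsg.Agent.Ln
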