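import Cfsg.Agent.Ln.Num
import Cfsg.Agent.Ln.Aut4
import Cfsg.Agent.Ln.Perm

/-!
Odd order automorphisms of a Sylow 2-subgroup of `PSL_n(q)`, `q` odd, are trivial (unless `n = 2`
and `q ≡ ±3 mod 8`).
-/

set_option autoImplicit false
set_option linter.unusedSectionVars false

namespace Cfsg.Agent.Ln

open Equiv Mon QuadraticAlgebra

variable {F : Type*} [Field F] [Fintype F]

/-- the concrete data -/
noncomputable def datF (hq : Odd (Fintype.card F)) : Dat (p2 (KK F)ˣ) (p2 Fˣ) where
  cj := p2map (Units.map (starRingEnd (KK F) : KK F →* KK F))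
  cj_cj x := Subtype.ext (Units.ext (star_star (x.1 : KK F)))
  ι := p2map (Units.map (algebraMap F (KK F) : F →* KK F))
  ι_inj c e h := Subtype.ext (Units.ext (algebraMap_injective
    (congrArg (fun x : p2 (KK F)ˣ => (x.1 : KK F)) h)))
  cj_ι c := Subtype.ext (Units.ext (by
    show star (algebraMap F (KK F) c.1) = algebraMap F (KK F) c.1
    ext <;> simp))
  fix x hx := by
    have h1 : star (x.1 : KK F) = x.1 := congrArg (fun x : p2 (KK F)ˣ => (x.1 : KK F)) hx
    have h2 : (x.1 : KK F).im = 0 := by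
      have := congrArg QuadraticAlgebra.im h1
      rw [im_star] at this
      have h3 : 2 * (x.1 : KK F).im = 0 := by linear_combination -this
      simpa [two_ne hq] using h3
    have h3 : algebraMap F (KK F) (x.1 : KK F).re = x.1 := by ext <;> simp [h2]
    have h4 : (x.1 : KK F).re ≠ 0 := fun h => by
      rw [h, map_zero] at h3; exact x.1.ne_zero h3.symm
    obtain ⟨k, hk⟩ := x.2
    refine ⟨⟨Units.mk0 _ h4, k, Units.ext (algebraMap_injective (a := (-1 : F)) (b := 0) ?_)⟩,
      Subtype.ext (Units.ext h3)⟩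
    rw [Units.val_pow_eq_pow_val, map_pow, Units.val_mk0, h3, ← Units.val_pow_eq_pow_val, hk]
    simp
  N := p2map (N0 F)
  ι_N x := Subtype.ext (Units.ext (algebraMap_norm_eq_mul_star (x.1 : KK F)))
  N_surj := p2map_surj (N0_surj hq)

section dat
variable (hq : Odd (Fintype.card F))

theorem card_C : Nat.card (p2 Fˣ) = 2 ^ padicValNat 2 (Fintype.card F - 1) := by
  rw [card_p2, Nat.card_units, Nat.card_eq_fintype_card]

include hq in
theorem card_B : Nat.card (p2 (KK F)ˣ) =
    2 ^ (padicValNat 2 (Nat.card (N0 F).ker) + padicValNat 2 (Fintype.card F - 1)) := by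
  have e1 : Nat.card (N0 F).ker * Nat.card (N0 F).range = Nat.card (KK F)ˣ := by
    rw [← Subgroup.index_ker, Subgroup.card_mul_index]
  rw [card_p2, ← e1, MonoidHom.range_eq_top.2 (N0_surj hq), Subgroup.card_top,
    padicValNat.mul Nat.card_pos.ne' Nat.card_pos.ne', Nat.card_units,
    Nat.card_eq_fintype_card (α := F)]

theorem card_U : Nat.card (datF hq).N.ker = 2 ^ padicValNat 2 (Nat.card (N0 F).ker) := by
  have e1 : Nat.card (datF hq).N.ker * Nat.card (datF hq).N.range = Nat.card (p2 (KK F)ˣ) := by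
    rw [← Subgroup.index_ker, Subgroup.card_mul_index]
  rw [MonoidHom.range_eq_top.2 (datF hq).N_surj, Subgroup.card_top, card_B hq, card_C, pow_add] at e1
  exact Nat.eq_of_mul_eq_mul_right (by positivity) e1

theorem cyc_U : IsCyclic (datF hq).N.ker := by
  haveI := (ker_N0 hq).1
  let j : (datF hq).N.ker →* (N0 F).ker :=
    ((p2 (KK F)ˣ).subtype.comp (datF hq).N.ker.subtype).codRestrict _
      fun x => congrArg Subtype.val (MonoidHom.mem_ker.1 x.2)
  exact isCyclic_of_injective j fun x y h =>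
    Subtype.ext (Subtype.ext (congrArg (fun z : (N0 F).ker => (z : (KK F)ˣ)) h))

theorem exists_u2 : ∃ u : p2 (KK F)ˣ, (datF hq).N u = 1 ∧ u * u ≠ 1 := by
  have h1 : (⟨0, 1⟩ : KK F) * ⟨0, -1⟩ = 1 := by ext <;> simp
  have h2 : (⟨0, -1⟩ : KK F) * ⟨0, 1⟩ = 1 := by ext <;> simp
  refine ⟨⟨⟨_, _, h1, h2⟩, 2, Units.ext ?_⟩, Subtype.ext (Units.ext ?_), fun h => ?_⟩
  · show (⟨0, 1⟩ : KK F) ^ 2 ^ 2 = 1
    ext <;> simp [pow_succ]
  · show norm (⟨0, 1⟩ : KK F) = 1
    simp [norm_def]
  · have h3 : (⟨0, 1⟩ : KK F) * ⟨0, 1⟩ = 1 := congrArg (fun x : p2 (KK F)ˣ => (x.1 : KK F)) h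
    have h4 := congrArg QuadraticAlgebra.re h3
    simp at h4
    exact two_ne hq (by linear_combination -h4)

theorem exists_u4 (h8 : Fintype.card F % 8 = 1 ∨ Fintype.card F % 8 = 7) :
    ∃ u : p2 (KK F)ˣ, (datF hq).N u = 1 ∧ u ^ 4 ≠ 1 := by
  haveI := cyc_U hq
  obtain ⟨u, hu⟩ := IsCyclic.exists_ofOrder_eq_natCard (α := (datF hq).N.ker)
  refine ⟨u, u.2, fun h => ?_⟩
  have h1 : orderOf u ∣ 2 ^ 2 := orderOf_dvd_of_pow_eq_one (Subtype.ext h)
  rw [hu, card_U, Nat.pow_dvd_pow_iff_le_right (by norm_num)] at h1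
  have h2 := (ker_N0 hq).2
  have h3 : 1 < Fintype.card F := Fintype.one_lt_card
  obtain ⟨q, hq'⟩ : ∃ q, q = Fintype.card F := ⟨_, rfl⟩
  rw [← hq'] at h8 h2 h3
  have h4 : ∀ k n, n ≠ 0 → 2 ^ k ∣ n → k ≤ padicValNat 2 n := fun k n hn h =>
    (padicValNat_dvd_iff_le hn).1 h
  rcases h8 with h8 | h8
  · have := h4 3 (q - 1) (by omega) (by omega)
    have := h4 1 (q + 1) (by omega) (by omega)
    omega
  · have := h4 1 (q - 1) (by omega) (by omega)
    have := h4 3 (q + 1) (by omega) (by omega)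
    omega

theorem pow_card_U (c : p2 Fˣ) : c ^ Nat.card (datF hq).N.ker = 1 := by
  have h2 := (ker_N0 hq).2
  have h3 : 1 ≤ padicValNat 2 (Fintype.card F + 1) :=
    (padicValNat_dvd_iff_le (by omega)).1 (by have := Nat.odd_iff.1 hq; omega)
  obtain ⟨k, hk⟩ : Nat.card (p2 Fˣ) ∣ Nat.card (datF hq).N.ker := by
    rw [card_U, card_C]; exact pow_dvd_pow _ (by omega)
  rw [hk, pow_mul, pow_card_eq_one', one_pow]

end dat

/-- twisting on the algebra -/
def twK (b : Bool) (z : KK F) : KK F := bif b then star z else z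

theorem twK_mul (b : Bool) (z w : KK F) : twK b (z * w) = twK b z * twK b w := by
  cases b <;> simp [twK]
theorem twK_add (b : Bool) (z w : KK F) : twK b (z + w) = twK b z + twK b w := by
  cases b <;> simp [twK]
theorem twK_smul (b : Bool) (c : F) (w : KK F) : twK b (c • w) = c • twK b w := by
  cases b
  · rfl
  · ext <;> simp [twK]
theorem twK_xor (b c : Bool) (z : KK F) : twK (xor b c) z = twK b (twK c z) := by
  cases b <;> cases c <;> simp [twK]
theorem twK_one (b : Bool) : twK b (1 : KK F) = 1 := by cases b <;> simp [twK]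
theorem twK_zero (b : Bool) : twK b (0 : KK F) = 0 := by cases b <;> simp [twK]
theorem coe_tw (hq : Odd (Fintype.card F)) (b : Bool) (x : p2 (KK F)ˣ) :
    ((((datF hq).tw b x : p2 (KK F)ˣ) : (KK F)ˣ) : KK F) = twK b x.1 := by
  cases b <;> rfl

section rep
variable {hq : Odd (Fintype.card F)} {I J : Type} [Fintype I] [Fintype J] [DecidableEq I]
  [DecidableEq J] {P : Subgroup (Perm I)}

/-- the linear representation -/
noncomputable def rho : Mon (datF hq) I J P →* Module.End F ((I → KK F) × (J → F)) where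
  toFun w :=
    { toFun := fun v => (fun i => ((w.a i).1 : KK F) * twK (w.s i) (v.1 ((w.p : Perm I)⁻¹ i)),
        fun j => ((w.μ j).1 : F) * v.2 j)
      map_add' := fun v v' => by
        ext i <;> simp [twK_add, mul_add]
      map_smul' := fun c v => by
        refine Prod.ext (funext fun i => ?_) (funext fun j => ?_)
        · simp [twK_smul]
        · simp [mul_left_comm] }
  map_one' := by
    refine LinearMap.ext fun v => Prod.ext (funext fun i => ?_) (funext fun j => ?_) <;> simp [twK]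
  map_mul' w w' := by
    refine LinearMap.ext fun v => Prod.ext (funext fun i => ?_) (funext fun j => ?_)
    · simp [coe_tw, twK_mul, twK_xor, mul_assoc]
    · simp [mul_assoc]

theorem rho_fst (w : Mon (datF hq) I J P) (v : (I → KK F) × (J → F)) (i : I) :
    (rho w v).1 i = ((w.a i).1 : KK F) * twK (w.s i) (v.1 ((w.p : Perm I)⁻¹ i)) := rfl
theorem rho_snd (w : Mon (datF hq) I J P) (v : (I → KK F) × (J → F)) (j : J) :
    (rho w v).2 j = ((w.μ j).1 : F) * v.2 j := rfl

theorem det_rho_dg (a : I → p2 (KK F)ˣ) (μ : J → p2 Fˣ) :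
    LinearMap.det (rho (dg a μ : Mon (datF hq) I J P)) =
      (∏ i, norm ((a i).1 : KK F)) * ∏ j, ((μ j).1 : F) := by
  have : rho (dg a μ : Mon (datF hq) I J P) = LinearMap.prodMap
      (LinearMap.pi fun i => (DistribSMul.toLinearMap F (KK F) ((a i).1 : KK F)).comp
        (LinearMap.proj i))
      (LinearMap.pi fun j => (LinearMap.mulLeft F ((μ j).1 : F)).comp (LinearMap.proj j)) := by
    refine LinearMap.ext fun v => Prod.ext (funext fun i => ?_) (funext fun j => ?_)
    · simp [rho_fst, twK]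
    · simp [rho_snd]
  rw [this, LinearMap.det_prodMap, LinearMap.det_pi, LinearMap.det_pi]
  simp

theorem rho_scal (c : p2 Fˣ) :
    rho (scal c : Mon (datF hq) I J P) = algebraMap F _ (c.1 : F) := by
  refine LinearMap.ext fun v => Prod.ext (funext fun i => ?_) (funext fun j => ?_)
  · rw [rho_fst]
    show algebraMap F (KK F) c.1 * v.1 i = _
    simp [Algebra.smul_def]
  · simp [rho_snd, scal]

theorem eq_scal_of_rho [Nonempty I] {w : Mon (datF hq) I J P} {r : F}
    (h : rho w = algebraMap F _ r) : ∃ c, w = scal c := by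
  have h1 : ∀ i l (z : KK F), ((w.a l).1 : KK F) * twK (w.s l)
      ((Pi.single i z : I → KK F) ((w.p : Perm I)⁻¹ l)) = r • (Pi.single i z : I → KK F) l := by
    intro i l z
    have := rho_fst w (Pi.single i z, 0) l
    rw [h] at this
    exact this.symm
  have hp : ∀ i, (w.p : Perm I) i = i := by
    intro i
    by_contra hi
    have := h1 i ((w.p : Perm I) i) 1
    rw [Pi.single_eq_of_ne hi] at this
    simp [twK_one] at this
  have hp' : ∀ i, (w.p : Perm I)⁻¹ i = i := fun i => by rw [Perm.inv_eq_iff_eq, hp]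
  have ha : ∀ i, ((w.a i).1 : KK F) = algebraMap F _ r := fun i => by
    have := h1 i i 1
    rw [hp'] at this
    simpa [twK_one, Algebra.smul_def] using this
  obtain ⟨i₀⟩ := ‹Nonempty I›
  have hr : r ≠ 0 := fun hr => (w.a i₀).1.ne_zero (by rw [ha, hr, map_zero])
  have hs : ∀ i, w.s i = false := fun i => by
    by_contra hi
    rw [Bool.not_eq_false] at hi
    have := h1 i i ⟨0, 1⟩
    rw [hp', ha, hi] at this
    have h2 := congrArg QuadraticAlgebra.im this
    simp [twK] at h2
    exact hr ((mul_eq_zero.1 (show 2 * r = 0 by linear_combination -h2)).resolve_left (two_ne hq))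
  have hμ : ∀ j, ((w.μ j).1 : F) = r := fun j => by
    have := rho_snd w (0, Pi.single j 1) j
    rw [h] at this
    simpa using this.symm
  obtain ⟨k, hk⟩ := (w.a i₀).2
  refine ⟨⟨Units.mk0 r hr, k, Units.ext (algebraMap_injective (a := (-1 : F)) (b := 0) ?_)⟩, ?_⟩
  · rw [Units.val_pow_eq_pow_val, map_pow, Units.val_mk0, ← ha i₀, ← Units.val_pow_eq_pow_val, hk]
    simp
  · refine (eq_dg hs (Mod.p_eq_one hp')).trans ?_
    unfold scal
    congr 1
    · ext1 i; exact Subtype.ext (Units.ext (ha i))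
    · ext1 j; exact Subtype.ext (Units.ext (hμ j))

theorem rho_inj [Nonempty I] : Function.Injective (rho : Mon (datF hq) I J P →* _) := by
  rw [injective_iff_map_eq_one]
  intro w hw
  obtain ⟨c, rfl⟩ := eq_scal_of_rho (w := w) (r := 1) (by rw [hw, map_one])
  rw [rho_scal] at hw
  have h1 : (c.1 : F) = 1 := FaithfulSMul.algebraMap_injective F _ (hw.trans (map_one _).symm)
  have : c = 1 := Subtype.ext (Units.ext h1)
  rw [this]; exact map_one scalH

theorem isPGroup_mon (hP : IsPGroup 2 P) : IsPGroup 2 (Mon (datF hq) I J P) := by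
  obtain ⟨k, hk⟩ := hP.exists_card_eq
  have h := Mon.card_eq (d := datF hq) (I := I) (J := J) (P := P)
  rw [card_B hq, card_C, hk, ← pow_mul, ← pow_mul, ← pow_add, ← pow_add, ← pow_add] at h
  exact IsPGroup.of_card h

/-- the determinant -/
noncomputable def del (hP : IsPGroup 2 P) : Mon (datF hq) I J P →* p2 Fˣ :=
  (LinearMap.det.comp rho).toHomUnits.codRestrict _ fun w => by
    obtain ⟨k, hk⟩ := isPGroup_mon hP w
    exact ⟨k, by rw [← map_pow, hk, map_one]⟩

theorem coe_del (hP : IsPGroup 2 P) (w : Mon (datF hq) I J P) :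
    ((del hP w).1 : F) = LinearMap.det (rho w) := rfl

theorem del_dg (hP : IsPGroup 2 P) (a : I → p2 (KK F)ˣ) (μ : J → p2 Fˣ) :
    del hP (dg a μ : Mon (datF hq) I J P) = (∏ i, (datF hq).N (a i)) * ∏ j, μ j := by
  apply Subtype.ext; apply Units.ext
  rw [coe_del, det_rho_dg]
  simp only [Subgroup.coe_mul, Subgroup.val_finset_prod, Units.val_mul, Units.coe_prod]
  rfl

theorem del_surj [Nonempty I] (hP : IsPGroup 2 P) :
    Function.Surjective (del hP : Mon (datF hq) I J P →* _) := by
  intro c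
  obtain ⟨i⟩ := ‹Nonempty I›
  obtain ⟨x, hx⟩ := (datF hq).N_surj c
  refine ⟨dg (Pi.mulSingle i x) 1, ?_⟩
  rw [del_dg, Finset.prod_eq_single i]
  · simp [hx]
  · intro l _ hl; simp [Pi.mulSingle_eq_of_ne hl]
  · simp

variable {n : ℕ} (b : Module.Basis (Fin n) F ((I → KK F) × (J → F)))

/-- the embedding in the special linear group -/
noncomputable def sig (hP : IsPGroup 2 P) :
    (del hP : Mon (datF hq) I J P →* _).ker →* Matrix.SpecialLinearGroup (Fin n) F :=
  MonoidHom.mk' (fun w => ⟨LinearMap.toMatrixAlgEquiv b (rho w.1), by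
      show (LinearMap.toMatrix b b (rho w.1)).det = 1
      rw [LinearMap.det_toMatrix, ← coe_del hP, MonoidHom.mem_ker.1 w.2]; rfl⟩)
    (fun v w => Subtype.ext (by
      simp only [Subgroup.coe_mul, map_mul]; rfl))

theorem sig_inj [Nonempty I] (hP : IsPGroup 2 P) :
    Function.Injective (sig (hq := hq) b hP) := fun _ _ h =>
  Subtype.ext (rho_inj ((LinearMap.toMatrixAlgEquiv b).injective (congrArg Subtype.val h)))

theorem sig_center [Nonempty I] (hP : IsPGroup 2 P) (w : (del hP : Mon (datF hq) I J P →* _).ker) :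
    sig b hP w ∈ Subgroup.center _ ↔ ∃ c, w.1 = scal c := by
  constructor
  · intro h
    obtain ⟨r, -, hr⟩ := Matrix.SpecialLinearGroup.mem_center_iff.1 h
    refine eq_scal_of_rho (r := r) ((LinearMap.toMatrixAlgEquiv b).injective ?_)
    rw [AlgEquiv.commutes]
    exact hr.symm
  · rintro ⟨c, hc⟩
    rw [Subgroup.mem_center_iff]
    intro g
    apply Subtype.ext
    have : (sig b hP w).1 = algebraMap F _ (c.1 : F) := by
      show LinearMap.toMatrixAlgEquiv b (rho w.1) = _
      rw [hc, rho_scal, AlgEquiv.commutes]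
    show g.1 * (sig b hP w).1 = (sig b hP w).1 * g.1
    rw [this, Algebra.commutes]

end rep

theorem psl_aut {n : ℕ} (hn : 2 ≤ n) (hq : Odd (Fintype.card F))
    (h2 : n = 2 → Fintype.card F % 8 = 1 ∨ Fintype.card F % 8 = 7)
    (T : Sylow 2 (Matrix.ProjectiveSpecialLinearGroup (Fin n) F)) (α : MulAut T) {r : ℕ}
    (hr : Odd r) (hα : α ^ r = 1) : α = 1 := by
  obtain ⟨I, _, _, P, h1, hcard, hP⟩ := exists_perm (n / 2)
  have hP2 : IsPGroup 2 P := IsPGroup.of_card hcard
  haveI : Nonempty I := Fintype.card_pos_iff.1 (by omega)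
  haveI : NeZero n := ⟨by omega⟩
  have hm2 : n % 2 < 2 := Nat.mod_lt _ two_pos
  haveI : Subsingleton (Fin (n % 2)) := ⟨fun a b => Fin.ext (by have := a.2; have := b.2; omega)⟩
  have hfin : Module.finrank F ((I → KK F) × (Fin (n % 2) → F)) = n := by
    rw [Module.finrank_prod, Module.finrank_pi_fintype, Module.finrank_fintype_fun_eq_card]
    simp only [finrank_eq_two, Finset.sum_const, Finset.card_univ, h1, smul_eq_mul,
      Fintype.card_fin]
    omega
  let b := Module.finBasisOfFinrankEq F _ hfin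
  let σ := sig (hq := hq) b hP2
  have hc : Nat.card σ.range =
      2 ^ (Nat.card (Matrix.SpecialLinearGroup (Fin n) F)).factorization 2 := by
    rw [← Nat.card_congr (MonoidHom.ofInjective (sig_inj b hP2)).toEquiv,
      Nat.factorization_def _ Nat.prime_two]
    have e1 : Nat.card (del hP2 : Mon (datF hq) I (Fin (n % 2)) P →* _).ker *
        Nat.card (del hP2 : Mon (datF hq) I (Fin (n % 2)) P →* _).range =
        Nat.card (Mon (datF hq) I (Fin (n % 2)) P) := by
      rw [← Subgroup.index_ker, Subgroup.card_mul_index]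
    rw [MonoidHom.range_eq_top.2 (del_surj hP2), Subgroup.card_top, Mon.card_eq, card_B hq, card_C,
      hcard, ← pow_mul, ← pow_mul, ← pow_add, ← pow_add, ← pow_add, h1, Fintype.card_fin] at e1
    have e2 := congrArg (padicValNat 2) (card_SL_mul (F := F) n)
    rw [padicValNat.mul Nat.card_pos.ne' Nat.card_pos.ne', val_GL hq, Nat.card_units,
      Nat.card_eq_fintype_card (α := F)] at e2
    have e3 := (ker_N0 hq).2
    apply Nat.eq_of_mul_eq_mul_right (m := 2 ^ padicValNat 2 (Fintype.card F - 1)) (by positivity)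
    rw [e1, ← pow_add, e2]
    congr 1
    have e4 := Nat.div_add_mod n 2
    generalize n / 2 = m at *
    generalize n % 2 = ε at *
    subst e4
    have e5 := congrArg (· * m) e3
    nlinarith
  let T₀ := (Sylow.ofCard σ.range hc).mapSurjective
    (QuotientGroup.mk'_surjective (Subgroup.center (Matrix.SpecialLinearGroup (Fin n) F)))
  let π₀ : (del hP2 : Mon (datF hq) I (Fin (n % 2)) P →* _).ker →* T₀ :=
    ((QuotientGroup.mk' _).comp σ).codRestrict _ fun w => ⟨σ w, ⟨w, rfl⟩, rfl⟩
  let M : Mod (datF hq) I (Fin (n % 2)) P T :=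
    { δ := del hP2
      δ_dg := del_dg hP2
      π := (Sylow.equiv T₀ T).toMonoidHom.comp π₀
      surj := (Sylow.equiv T₀ T).surjective.comp (by
        rintro ⟨_, _, ⟨w, rfl⟩, rfl⟩
        exact ⟨w, rfl⟩)
      ker := fun w => by
        rw [← sig_center b hP2 w, ← QuotientGroup.eq_one_iff, MonoidHom.comp_apply,
          MulEquiv.coe_toMonoidHom, map_eq_one_iff _ (Sylow.equiv T₀ T).injective, Subtype.ext_iff]
        rfl }
  haveI := cyc_U hq
  refine M.aut_eq_one T.isPGroup' p2_isPGroup (exists_u2 hq) (fun h => exists_u4 hq (h2 ?_))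
    (pow_card_U hq) hP (fun i₀ i₁ h01 hI => ?_) hr hα
  · unfold Mod.H2 at h
    push Not at h
    obtain ⟨i₀, hJ, hI⟩ := h
    have e1 : Fintype.card I = 1 := Fintype.card_eq_one_iff.2 ⟨i₀, hI⟩
    have e2 : n % 2 = 0 := by
      have := Fintype.card_eq_zero (α := Fin (n % 2))
      rwa [Fintype.card_fin] at this
    omega
  · have e1 : Fintype.card I = 2 := by
      rw [← Finset.card_univ, ← Finset.card_pair h01]
      congr 1; ext l; simpa using hI l
    have : P = ⊤ := by
      apply Subgroup.eq_top_of_card_eq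
      rw [hcard, ← h1, Nat.card_eq_fintype_card, Fintype.card_perm, e1]
      simp
    rw [this]; trivial

end Cfsg.Agent.Ln
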