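import Cfsg.Agent.S5293
import Cfsg.Agent.S5134
import Cfsg.Agent.S5132
import Cfsg.Agent.S5097
import Cfsg.Agent.S5093
import Cfsg.Agent.S5198
import Cfsg.Agent.H1.Basic
import Cfsg.Agent.Ln.PSL

/-!
A normal subsystem with small centralizer over a 2-group without odd order automorphisms is the
whole 2-fusion system of a simple group.
-/

set_option autoImplicit false
set_option linter.unusedSectionVars false

namespace Cfsg.Agent.Ln

open Cfsg FusionSystem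

variable {G : Type*} [Group G] [Finite G]

theorem ctl (S : Sylow 2 G) {T : Subgroup G}
    (hF : (groupFusionSystem (S : Subgroup G)).IsSaturated 2)
    (hT : (groupFusionSystem (S : Subgroup G)).StronglyClosed T) {x g : G} (hx : x ∈ (S : Subgroup G))
    (hg : g * x * g⁻¹ ∈ (S : Subgroup G)) : ∃ n ∈ Subgroup.normalizer (T : Set G),
      n * x * n⁻¹ ∈ (S : Subgroup G) ∧ (n * x * n⁻¹)⁻¹ * (g * x * g⁻¹) ∈ T := by
  have hsc : ∀ n : G, (∀ t ∈ T, n * t * n⁻¹ ∈ (S : Subgroup G)) → ∀ t ∈ T, n * t * n⁻¹ ∈ T :=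
    fun n hn t ht => hT.2 T le_rfl (conjHom T n) ⟨hT.1, fun t => hn t t.2, n, fun _ => rfl⟩ ⟨t, ht⟩
  haveI : (T.subgroupOf (S : Subgroup G)).Normal := ⟨fun t ht s => hsc s
    (fun t ht => mul_mem (mul_mem s.2 (hT.1 ht)) (inv_mem s.2)) t ht⟩
  obtain ⟨E, hE⟩ := S5132.result 2 S.isPGroup' _ T hT
  obtain ⟨h1, -, h2⟩ := S5134.result 2 S.isPGroup' _ hF T hT _ E hE
  have hP : Subgroup.zpowers x ≤ (S : Subgroup G) := Subgroup.zpowers_le.2 hx
  obtain ⟨φ', hφ', a1, a2, a3, a4⟩ := h1.2 (Subgroup.zpowers x) (conjHom _ g) ⟨hP, by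
    rintro ⟨_, k, rfl⟩
    show g * x ^ k * g⁻¹ ∈ (S : Subgroup G)
    rw [← conj_zpow]; exact zpow_mem hg k, g, fun _ => rfl⟩
  obtain ⟨ψ, ⟨-, -, n, hn⟩, b1, b2, b3, b4⟩ := h2 _ le_top φ' hφ'
  have hxP : x ∈ preimageAlong (QuotientGroup.mk' (T.subgroupOf (S : Subgroup G)))
      (imageAlong (QuotientGroup.mk' (T.subgroupOf (S : Subgroup G))) (Subgroup.zpowers x)) :=
    ⟨⟨x, hx⟩, a3 ⟨x, Subgroup.mem_zpowers x⟩, rfl⟩
  refine ⟨n, Subgroup.mem_normalizer_fintype (hsc n fun t ht => ?_), ?_, ?_⟩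
  · have htP : t ∈ preimageAlong (QuotientGroup.mk' (T.subgroupOf (S : Subgroup G)))
        (imageAlong (QuotientGroup.mk' (T.subgroupOf (S : Subgroup G))) (Subgroup.zpowers x)) := by
      refine ⟨⟨t, hT.1 ht⟩, ?_, rfl⟩
      have : QuotientGroup.mk' (T.subgroupOf (S : Subgroup G)) ⟨t, hT.1 ht⟩ = 1 :=
        (QuotientGroup.eq_one_iff _).2 ht
      show QuotientGroup.mk' (T.subgroupOf (S : Subgroup G)) ⟨t, hT.1 ht⟩ ∈ imageAlong _ _
      rw [this]; exact one_mem _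
    exact hn ⟨t, htP⟩ ▸ b2 ⟨t, htP⟩
  · exact hn ⟨x, hxP⟩ ▸ b2 ⟨x, hxP⟩
  · have e1 := (b4 ⟨x, hxP⟩).symm.trans (a4 ⟨x, Subgroup.mem_zpowers x⟩)
    have e2 : (ψ ⟨x, hxP⟩)⁻¹ * (g * x * g⁻¹) ∈ T :=
      (QuotientGroup.eq (s := T.subgroupOf (S : Subgroup G))).1 e1
    rwa [hn] at e2

theorem fus [IsSimpleGroup G] (hG : ¬ IsMulCommutative G) (S : Sylow 2 G) {T : Subgroup G}
    (E : FusionSystem T) (hE : E.IsNormalIn (groupFusionSystem (S : Subgroup G)) 2)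
    (hA : ∀ α : MulAut T, Odd (orderOf α) → α = 1)
    (hC : ∀ Y : Subgroup G, Y ≤ centralizerIn (S : Subgroup G) T →
      (∀ P : Subgroup G, E.Hom P ⊆ (groupFusionSystem (S : Subgroup G)).centralizerHom Y P) →
        Y ≤ T) :
    T = S ∧ ∀ P, E.Hom P = (groupFusionSystem (S : Subgroup G)).Hom P := by
  have hF := hE.1.2.1
  have hT := hE.1.2.2.2.1
  have hns : ¬ Group.IsSolvable G := fun h =>
    hG ⟨⟨IsSimpleGroup.comm_iff_isSolvable.2 h⟩⟩
  have hA2 : IsPGroup 2 (MulAut T) := fun α => by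
    obtain ⟨k, m, hm, hk⟩ := Nat.exists_eq_two_pow_mul_odd (orderOf_pos α).ne'
    refine ⟨k, hA _ (Odd.of_dvd_nat hm (orderOf_dvd_of_pow_eq_one ?_))⟩
    rw [← pow_mul, ← hk, pow_orderOf_eq_one]
  have hres : pResidual 2 G = ⊤ := by
    refine (H1.pResidual_normal 2 G).eq_bot_or_eq_top.resolve_left fun h => hns ?_
    obtain ⟨k, hk⟩ := H1.index_pResidual (p := 2) (G := G)
    rw [h, Subgroup.index_bot] at hk
    haveI := (IsPGroup.of_card hk).isNilpotent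
    infer_instance
  have h1 : ∀ x ∈ (S : Subgroup G), ∃ t ∈ T, ∀ y ∈ T, x * y * x⁻¹ = t * y * t⁻¹ := by
    intro x hx
    obtain ⟨α, hα, hα'⟩ := S5198.result 2 S.isPGroup' _ hF T hT x (by
      rw [S5093.result 2 S, hres, inf_top_eq]; exact hx)
    have : (pResidual 2 ↥((groupFusionSystem (S : Subgroup G)).autGroup T)).map
        ((groupFusionSystem (S : Subgroup G)).autGroup T).subtype ≤ ⊥ := by
      rw [Subgroup.map_le_iff_le_comap, pResidual, Subgroup.closure_le]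
      intro β hβ
      exact hA β (by rw [Subgroup.orderOf_coe]; exact Nat.coprime_two_right.1 hβ)
    rw [le_bot_iff.1 this, bot_sup_eq] at hα
    obtain ⟨t, rfl⟩ := hα
    exact ⟨t, t.2, fun y hy => (hα' ⟨y, hy⟩).symm⟩
  have hSN : (S : Subgroup G) ≤ Subgroup.normalizer (T : Set G) := fun x hx => by
    obtain ⟨t, ht, h⟩ := h1 x hx
    exact Subgroup.mem_normalizer_fintype fun y hy => by
      rw [h y hy]; exact mul_mem (mul_mem ht hy) (inv_mem ht)
  have h2 : ∀ n ∈ Subgroup.normalizer (T : Set G), ∃ t ∈ T, ∀ y ∈ T, n * y * n⁻¹ = t * y * t⁻¹ := by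
    intro n hn
    let R := (S.subtype hSN).mapSurjective T.normalizerMonoidHom.rangeRestrict_surjective
    have hR : (⊤ : Subgroup T.normalizerMonoidHom.range) = R :=
      R.is_maximal' ((hA2.to_subgroup _).to_subgroup ⊤) le_top
    have : T.normalizerMonoidHom.rangeRestrict ⟨n, hn⟩ ∈ (R : Subgroup _) :=
      hR ▸ Subgroup.mem_top _
    obtain ⟨s, hs, hs'⟩ := this
    obtain ⟨t, ht, h⟩ := h1 s hs
    refine ⟨t, ht, fun y hy => ?_⟩
    rw [← h y hy]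
    exact (congrArg (fun β : T.normalizerMonoidHom.range => ((β : MulAut T) ⟨y, hy⟩ : G)) hs').symm
  obtain ⟨D, hD⟩ := S5097.result (groupFusionSystem (S : Subgroup G)) T hT.1
  have hfoc : D.focalSubgroup ≤ T :=
    (S5293.result 2 S.isPGroup' _ hF E hE _ rfl D hD).trans (sSup_le fun Y hY => hC Y hY.1 hY.2)
  have h3 : ∀ c ∈ Subgroup.centralizer (T : Set G), ∀ x ∈ centralizerIn (S : Subgroup G) T,
      c * x * c⁻¹ ∈ (S : Subgroup G) → x⁻¹ * (c * x * c⁻¹) ∈ T := by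
    intro c hc x hx hcx
    have hP : Subgroup.zpowers x ≤ centralizerIn (S : Subgroup G) T := Subgroup.zpowers_le.2 hx
    have hcT : ∀ y ∈ T, c * y * c⁻¹ = y := fun y hy => by
      rw [← hc y hy, mul_inv_cancel_right]
    have hle : Subgroup.zpowers x ⊔ T ≤ (S : Subgroup G).comap (MulAut.conj c).toMonoidHom :=
      sup_le (Subgroup.zpowers_le.2 hcx) fun y hy => by
        show c * y * c⁻¹ ∈ (S : Subgroup G)
        rw [hcT y hy]; exact hT.1 hy
    refine hfoc (Subgroup.subset_closure ⟨Subgroup.zpowers x, conjHom _ c,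
      ⟨x, Subgroup.mem_zpowers x⟩, ?_, rfl⟩)
    rw [hD]
    refine ⟨⟨hP.trans inf_le_left, fun y => hle (Subgroup.mem_sup_left y.2), c, fun _ => rfl⟩, hP,
      fun y => ⟨hle (Subgroup.mem_sup_left y.2), 
        Subgroup.mul_mem _ (Subgroup.mul_mem _ hc (hP y.2).2) (Subgroup.inv_mem _ hc)⟩,
      conjHom _ c, ⟨sup_le (hP.trans inf_le_left) hT.1, fun y => hle y.2, c, fun _ => rfl⟩,
      fun _ => rfl, fun y => hcT y y.2⟩
  have hcen : ∀ n t : G, (∀ y ∈ T, n * y * n⁻¹ = t * y * t⁻¹) →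
      t⁻¹ * n ∈ Subgroup.centralizer (T : Set G) := fun n t h y hy => by
    calc y * (t⁻¹ * n) = t⁻¹ * (t * y * t⁻¹) * n := by group
      _ = t⁻¹ * n * y := by rw [← h y hy]; group
  have h4 : ∀ x ∈ (S : Subgroup G), ∀ g : G, g * x * g⁻¹ ∈ (S : Subgroup G) →
      x⁻¹ * (g * x * g⁻¹) ∈ T := by
    intro x hx g hg
    obtain ⟨n, hn, hnx, hnT⟩ := ctl S hF hT hx hg
    obtain ⟨t, ht, ht'⟩ := h2 n hn
    obtain ⟨u, hu, hu'⟩ := h1 x hx
    have hc := hcen n t ht'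
    have hr := hcen x u hu'
    have hrS : u⁻¹ * x ∈ (S : Subgroup G) := mul_mem (inv_mem (hT.1 hu)) hx
    obtain ⟨c, rfl⟩ : ∃ c, n = t * c := ⟨t⁻¹ * n, by group⟩
    obtain ⟨z, rfl⟩ : ∃ z, x = u * z := ⟨u⁻¹ * x, by group⟩
    rw [inv_mul_cancel_left] at hc hr hrS
    have e1 : c * z * c⁻¹ = u⁻¹ * (t⁻¹ * (t * c * (u * z) * (t * c)⁻¹) * t) := by
      calc c * z * c⁻¹ = u⁻¹ * (u * c) * z * c⁻¹ := by group
        _ = _ := by rw [hc u hu]; group
    have e2 : c * z * c⁻¹ ∈ (S : Subgroup G) := by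
      rw [e1]
      exact mul_mem (inv_mem (hT.1 hu)) (mul_mem (mul_mem (inv_mem (hT.1 ht)) hnx) (hT.1 ht))
    have e3 := h3 c hc z ⟨hrS, hr⟩ e2
    have e4 : (u * z)⁻¹ * (t * c * (u * z) * (t * c)⁻¹) =
        z⁻¹ * (u⁻¹ * t * u) * z * (z⁻¹ * (c * z * c⁻¹)) * t⁻¹ := by
      calc (u * z)⁻¹ * (t * c * (u * z) * (t * c)⁻¹)
          = (u * z)⁻¹ * (t * (c * u) * z * (t * c)⁻¹) := by group
        _ = _ := by rw [← hc u hu]; group
    have e5 : z⁻¹ * (u⁻¹ * t * u) * z ∈ T := by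
      have h5 : u⁻¹ * t * u ∈ T := mul_mem (mul_mem (inv_mem hu) ht) hu
      rw [mul_assoc, hr _ h5, inv_mul_cancel_left]; exact h5
    have e6 := mul_mem (e4 ▸ mul_mem (mul_mem e5 e3) (inv_mem ht)) hnT
    simpa [mul_assoc] using e6
  have hTS : T = S := by
    refine le_antisymm hT.1 ?_
    have h5 : commutator G = ⊤ := by
      refine (inferInstance : (commutator G).Normal).eq_bot_or_eq_top.resolve_left fun h => hns ?_
      exact ⟨1, h⟩
    have h6 := Subgroup.commutator_inf_eq_focalSubgroup S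
    rw [h5, top_inf_eq] at h6
    rw [h6, Subgroup.focalSubgroup_def, Subgroup.closure_le]
    rintro _ ⟨hg, x, hx, u, rfl⟩
    have := h4 x⁻¹ (inv_mem hx) u (by
      simpa [commutatorElement_def, mul_assoc] using mul_mem (inv_mem hx) hg)
    simpa [commutatorElement_def, mul_assoc] using this
  refine ⟨hTS, fun P => Set.Subset.antisymm (hE.1.2.2.1 P) fun φ hφ => ?_⟩
  have hP : P ≤ T := hTS ▸ hφ.1
  obtain ⟨α, hα, φ₀, hφ₀, h⟩ := hE.1.2.2.2.2.2 P hP φ hφ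
  have hinn : α ∈ Inn T := by
    refine (Subgroup.closure_le _).2 ?_ hα
    rintro β ⟨-, -, n, hn⟩
    obtain ⟨t, ht, ht'⟩ := h2 n (Subgroup.mem_normalizer_fintype fun y hy => by
      rw [← hn ⟨y, hy⟩]; exact (β ⟨y, hy⟩).2)
    exact ⟨⟨t, ht⟩, MulEquiv.ext fun y => Subtype.ext ((ht' y y.2).symm.trans (hn y).symm)⟩
  obtain ⟨t, rfl⟩ := hinn
  have h7 := E.comp_mem hφ₀ (E.conj_mem le_rfl t.2) (E.le_of_mem hφ₀).2
  convert h7 using 1
  ext x
  exact h x ((E.le_of_mem hφ₀).2 x)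

theorem main [IsSimpleGroup G] (hG : ¬ IsMulCommutative G) (S : Sylow 2 G) (n : ℕ) (hn : 2 ≤ n)
    {F : Type*} [Field F] [Fintype F] (q : ℕ) (hFq : Fintype.card F = q) (hq : Odd q)
    (h2 : n = 2 → q % 8 = 1 ∨ q % 8 = 7) {T : Subgroup G} (E : FusionSystem T)
    (hE : E.IsNormalIn (groupFusionSystem (S : Subgroup G)) 2)
    (hiso : ∃ ι : T →* Matrix.ProjectiveSpecialLinearGroup (Fin n) F, E.IsRealizedBy ι ∧
      ∃ T' : Sylow 2 (Matrix.ProjectiveSpecialLinearGroup (Fin n) F),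
        (T' : Subgroup (Matrix.ProjectiveSpecialLinearGroup (Fin n) F)) = ι.range)
    (hC : ∀ Y : Subgroup G, Y ≤ centralizerIn (S : Subgroup G) T →
      (∀ P : Subgroup G, E.Hom P ⊆ (groupFusionSystem (S : Subgroup G)).centralizerHom Y P) →
        Y ≤ T) :
    ∃ ι : ↥(S : Subgroup G) →* Matrix.ProjectiveSpecialLinearGroup (Fin n) F,
      (groupFusionSystem (S : Subgroup G)).IsRealizedBy ι ∧
        ∃ T' : Sylow 2 (Matrix.ProjectiveSpecialLinearGroup (Fin n) F),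
          (T' : Subgroup (Matrix.ProjectiveSpecialLinearGroup (Fin n) F)) = ι.range := by
  subst hFq
  obtain ⟨ι, hι, T', hT'⟩ := hiso
  let e : T ≃* T' := (MonoidHom.ofInjective hι.1).trans (MulEquiv.subgroupCongr hT'.symm)
  obtain ⟨h3, h4⟩ := fus hG S E hE (fun α hα => by
    have := psl_aut hn hq h2 T' (MulAut.congr e α) hα (by
      rw [← map_pow, pow_orderOf_eq_one, map_one])
    exact (map_eq_one_iff _ (MulAut.congr e).injective).1 this) hC
  subst h3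
  exact ⟨ι, ⟨hι.1, fun P hP φ hφ => h4 P ▸ hι.2 P hP φ hφ⟩, T', hT'⟩

end Cfsg.Agent.Ln
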