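import Mathlib

/-!
Abstract monomial groups, used as a model for Sylow 2-subgroups of linear groups in odd
characteristic.
-/

set_option autoImplicit false
set_option linter.unusedSectionVars false

namespace Cfsg.Agent.Ln

open Equiv

/-- A commutative group `B` with an involution, its fixed points `C` and the norm. -/
structure Dat (B C : Type*) [CommGroup B] [CommGroup C] where
  cj : B →* B
  cj_cj : ∀ x, cj (cj x) = x
  ι : C →* B
  ι_inj : Function.Injective ι
  cj_ι : ∀ c, cj (ι c) = ι c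
  fix : ∀ x, cj x = x → ∃ c, ι c = x
  N : B →* C
  ι_N : ∀ x, ι (N x) = x * cj x
  N_surj : Function.Surjective N

variable {B C : Type*} [CommGroup B] [CommGroup C]

namespace Dat
variable (d : Dat B C)

/-- twisting by a sign -/
def tw (b : Bool) : B →* B := bif b then d.cj else MonoidHom.id B

@[simp] theorem tw_false (x : B) : d.tw false x = x := rfl
@[simp] theorem tw_true (x : B) : d.tw true x = d.cj x := rfl
theorem tw_xor (b c : Bool) (x : B) : d.tw (xor b c) x = d.tw b (d.tw c x) := by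
  cases b <;> cases c <;> simp [d.cj_cj]
@[simp] theorem tw_tw (b : Bool) (x : B) : d.tw b (d.tw b x) = x := by
  cases b <;> simp [d.cj_cj]
@[simp] theorem tw_ι (b : Bool) (c : C) : d.tw b (d.ι c) = d.ι c := by
  cases b <;> simp [d.cj_ι]
@[simp] theorem N_cj (x : B) : d.N (d.cj x) = d.N x :=
  d.ι_inj (by rw [d.ι_N, d.ι_N, d.cj_cj, mul_comm])
@[simp] theorem N_tw (b : Bool) (x : B) : d.N (d.tw b x) = d.N x := by
  cases b <;> simp
@[simp] theorem N_ι (c : C) : d.N (d.ι c) = c * c :=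
  d.ι_inj (by rw [d.ι_N, d.cj_ι, map_mul])
theorem cj_of_N {u : B} (hu : d.N u = 1) : d.cj u = u⁻¹ := by
  have := d.ι_N u
  rw [hu, map_one] at this
  exact (inv_eq_of_mul_eq_one_right this.symm).symm
theorem sq_of_ι {u : B} (hu : d.N u = 1) {c : C} (hc : u = d.ι c) : u * u = 1 := by
  have h1 := d.cj_of_N hu
  rw [hc, d.cj_ι] at h1
  rw [hc]; nth_rewrite 1 [h1]; simp
theorem N_h (x : B) : d.N (d.cj x * x⁻¹) = 1 := by simp

/-- Hilbert 90. -/
theorem h90 [Finite B] {u : B} (hu : d.N u = 1) : ∃ x, d.cj x * x⁻¹ = u := by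
  haveI : Finite C := Finite.of_injective _ d.ι_inj
  let h : B →* B := d.cj * (MonoidHom.id B)⁻¹
  have hh : ∀ x, h x = d.cj x * x⁻¹ := fun x => rfl
  have hle : h.range ≤ d.N.ker := by
    rintro _ ⟨x, rfl⟩
    rw [MonoidHom.mem_ker, hh]; exact d.N_h x
  have hk : h.ker = d.ι.range := by
    ext x
    rw [MonoidHom.mem_ker, hh, mul_inv_eq_one]
    exact ⟨fun hx => d.fix x hx, by rintro ⟨c, rfl⟩; exact d.cj_ι c⟩
  have h1 : Nat.card h.ker * Nat.card h.range = Nat.card B := by
    rw [← Subgroup.index_ker, Subgroup.card_mul_index]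
  have h2 : Nat.card d.N.ker * Nat.card d.N.range = Nat.card B := by
    rw [← Subgroup.index_ker, Subgroup.card_mul_index]
  have h3 : Nat.card h.ker = Nat.card C := by
    rw [hk]; exact (Nat.card_congr (MonoidHom.ofInjective d.ι_inj).toEquiv).symm
  have h4 : Nat.card d.N.range = Nat.card C := by
    rw [MonoidHom.range_eq_top.2 d.N_surj, Subgroup.card_top]
  have h5 : Nat.card h.range = Nat.card d.N.ker := by
    rw [h3] at h1; rw [h4, mul_comm] at h2
    exact Nat.eq_of_mul_eq_mul_left Nat.card_pos (h1.trans h2.symm)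
  have h6 : h.range = d.N.ker := Subgroup.eq_of_le_of_card_ge hle h5.ge
  have : u ∈ h.range := h6 ▸ (MonoidHom.mem_ker.2 hu)
  obtain ⟨x, hx⟩ := this
  exact ⟨x, hx⟩

end Dat

/-- The monomial group. -/
@[ext] structure Mon (d : Dat B C) (I J : Type*) (P : Subgroup (Perm I)) where
  a : I → B
  s : I → Bool
  p : P
  μ : J → C

namespace Mon
variable {d : Dat B C} {I J : Type*} {P : Subgroup (Perm I)}

instance instMul : Mul (Mon d I J P) :=
  ⟨fun w v => ⟨fun i => w.a i * d.tw (w.s i) (v.a ((w.p : Perm I)⁻¹ i)),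
    fun i => xor (w.s i) (v.s ((w.p : Perm I)⁻¹ i)), w.p * v.p, w.μ * v.μ⟩⟩
instance instOne : One (Mon d I J P) := ⟨⟨1, fun _ => false, 1, 1⟩⟩
instance instInv : Inv (Mon d I J P) :=
  ⟨fun w => ⟨fun i => d.tw (w.s ((w.p : Perm I) i)) (w.a ((w.p : Perm I) i))⁻¹,
    fun i => w.s ((w.p : Perm I) i), w.p⁻¹, w.μ⁻¹⟩⟩

@[simp] theorem mul_a (w v : Mon d I J P) (i : I) :
    (w * v).a i = w.a i * d.tw (w.s i) (v.a ((w.p : Perm I)⁻¹ i)) := rfl
@[simp] theorem mul_s (w v : Mon d I J P) (i : I) :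
    (w * v).s i = xor (w.s i) (v.s ((w.p : Perm I)⁻¹ i)) := rfl
@[simp] theorem mul_p (w v : Mon d I J P) : (w * v).p = w.p * v.p := rfl
@[simp] theorem mul_μ (w v : Mon d I J P) : (w * v).μ = w.μ * v.μ := rfl
@[simp] theorem one_a : (1 : Mon d I J P).a = 1 := rfl
@[simp] theorem one_s (i : I) : (1 : Mon d I J P).s i = false := rfl
@[simp] theorem one_p : (1 : Mon d I J P).p = 1 := rfl
@[simp] theorem one_μ : (1 : Mon d I J P).μ = 1 := rfl
@[simp] theorem inv_a (w : Mon d I J P) (i : I) :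
    w⁻¹.a i = d.tw (w.s ((w.p : Perm I) i)) (w.a ((w.p : Perm I) i))⁻¹ := rfl
@[simp] theorem inv_s (w : Mon d I J P) (i : I) : w⁻¹.s i = w.s ((w.p : Perm I) i) := rfl
@[simp] theorem inv_p (w : Mon d I J P) : w⁻¹.p = w.p⁻¹ := rfl
@[simp] theorem inv_μ (w : Mon d I J P) : w⁻¹.μ = w.μ⁻¹ := rfl

instance instGroup : Group (Mon d I J P) := Group.ofLeftAxioms
  (fun u v w => by
    ext i
    · simp [d.tw_xor, mul_assoc]
    · simp
    · simp [mul_assoc]
    · simp [mul_assoc])
  (fun w => by ext i <;> simp)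
  (fun w => by ext i <;> simp)

/-- diagonal elements -/
def dg (a : I → B) (μ : J → C) : Mon d I J P := ⟨a, fun _ => false, 1, μ⟩
@[simp] theorem dg_a (a : I → B) (μ : J → C) : (dg a μ : Mon d I J P).a = a := rfl
@[simp] theorem dg_s (a : I → B) (μ : J → C) (i : I) : (dg a μ : Mon d I J P).s i = false := rfl
@[simp] theorem dg_p (a : I → B) (μ : J → C) : (dg a μ : Mon d I J P).p = 1 := rfl
@[simp] theorem dg_μ (a : I → B) (μ : J → C) : (dg a μ : Mon d I J P).μ = μ := rfl
theorem dg_mul (a b : I → B) (μ ν : J → C) :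
    (dg a μ * dg b ν : Mon d I J P) = dg (a * b) (μ * ν) := by
  ext i <;> simp
theorem dg_one : (dg 1 1 : Mon d I J P) = 1 := rfl
theorem dg_inv (a : I → B) (μ : J → C) : (dg a μ : Mon d I J P)⁻¹ = dg a⁻¹ μ⁻¹ := by
  ext i <;> simp
theorem dg_pow (a : I → B) (μ : J → C) (n : ℕ) :
    (dg a μ : Mon d I J P) ^ n = dg (a ^ n) (μ ^ n) := by
  induction n with
  | zero => simp [dg_one]
  | succ n ih => rw [pow_succ, ih, dg_mul, pow_succ, pow_succ]
theorem eq_dg {w : Mon d I J P} (hs : ∀ i, w.s i = false) (hp : w.p = 1) : w = dg w.a w.μ := by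
  ext i <;> simp [hs, hp]

/-- scalars -/
def scal (c : C) : Mon d I J P := dg (fun _ => d.ι c) (fun _ => c)
theorem scal_mul (c e : C) : (scal c * scal e : Mon d I J P) = scal (c * e) := by
  unfold scal; rw [dg_mul]; congr 1; ext i; simp
/-- scalars as a homomorphism -/
def scalH : C →* Mon d I J P := MonoidHom.mk' scal (fun c e => (scal_mul c e).symm)

/-- pure type elements -/
def ty (s : I → Bool) (p : P) : Mon d I J P := ⟨1, s, p, 1⟩
@[simp] theorem ty_a (s : I → Bool) (p : P) : (ty s p : Mon d I J P).a = 1 := rfl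
@[simp] theorem ty_s (s : I → Bool) (p : P) : (ty s p : Mon d I J P).s = s := rfl
@[simp] theorem ty_p (s : I → Bool) (p : P) : (ty s p : Mon d I J P).p = p := rfl
@[simp] theorem ty_μ (s : I → Bool) (p : P) : (ty s p : Mon d I J P).μ = 1 := rfl
theorem dg_ty (w : Mon d I J P) : w = dg w.a w.μ * ty w.s w.p := by
  ext i <;> simp

/-- the commutator of `w` with a diagonal element -/
def cm (w : Mon d I J P) (a : I → B) : I → B :=
  fun i => d.tw (w.s i) (a ((w.p : Perm I)⁻¹ i)) * (a i)⁻¹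
theorem comm_dg (w : Mon d I J P) (a : I → B) (μ : J → C) :
    w * dg a μ * w⁻¹ * (dg a μ)⁻¹ = dg (w.cm a) 1 := by
  ext i
  · simp [cm, mul_comm, mul_left_comm]
  · simp
  · simp
  · simp [mul_comm]

/-- coordinates -/
def equivProd : Mon d I J P ≃ (I → B) × (I → Bool) × P × (J → C) where
  toFun w := (w.a, w.s, w.p, w.μ)
  invFun x := ⟨x.1, x.2.1, x.2.2.1, x.2.2.2⟩
  left_inv _ := rfl
  right_inv _ := rfl

theorem card_eq [Fintype I] [Fintype J] : Nat.card (Mon d I J P) =
    Nat.card B ^ Fintype.card I * 2 ^ Fintype.card I * Nat.card P * Nat.card C ^ Fintype.card J := by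
  rw [Nat.card_congr equivProd]
  simp only [Nat.card_prod, Nat.card_fun, Nat.card_eq_fintype_card, Fintype.card_bool, mul_assoc]

end Mon

end Cfsg.Agent.Ln
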