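import Cfsg.Agent.Ln.Mon

/-!
The 2-part of the order of the general linear group; the quadratic algebra `F[i]`.
-/

set_option autoImplicit false
set_option linter.unusedSectionVars false

namespace Cfsg.Agent.Ln

instance instFactTwo : Fact (Nat.Prime 2) := ⟨Nat.prime_two⟩

/-- the 2-part of a commutative group -/
def p2 (G : Type*) [CommGroup G] : Subgroup G where
  carrier := {x | ∃ k : ℕ, x ^ 2 ^ k = 1}
  one_mem' := ⟨0, by simp⟩
  mul_mem' := by
    rintro x y ⟨k, hk⟩ ⟨l, hl⟩
    refine ⟨k + l, ?_⟩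
    rw [mul_pow, pow_add, pow_mul, hk, mul_comm (2 ^ k), pow_mul, hl]; simp
  inv_mem' := by
    rintro x ⟨k, hk⟩
    exact ⟨k, by rw [inv_pow, hk, inv_one]⟩

section p2
variable {G H : Type*} [CommGroup G] [CommGroup H]

theorem p2_isPGroup : IsPGroup 2 (p2 G) := fun ⟨_, k, hk⟩ => ⟨k, Subtype.ext hk⟩

theorem card_p2 [Finite G] : Nat.card (p2 G) = 2 ^ padicValNat 2 (Nat.card G) := by
  obtain ⟨S⟩ : Nonempty (Sylow 2 G) := inferInstance
  have h : p2 G = S := S.is_maximal' p2_isPGroup fun x hx => by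
    obtain ⟨k, hk⟩ := S.isPGroup' ⟨x, hx⟩
    exact ⟨k, congrArg Subtype.val hk⟩
  rw [h, S.card_eq_multiplicity, Nat.factorization_def _ Nat.prime_two]

/-- restriction to the 2-parts -/
def p2map (f : G →* H) : p2 G →* p2 H :=
  (f.comp (p2 G).subtype).codRestrict (p2 H) fun ⟨_, k, hk⟩ =>
    ⟨k, by simp only [MonoidHom.comp_apply, Subgroup.subtype_apply]; rw [← map_pow, hk, map_one]⟩

@[simp] theorem coe_p2map (f : G →* H) (x : p2 G) : (p2map f x : H) = f x := rfl

theorem p2map_surj [Finite G] {f : G →* H} (hf : Function.Surjective f) :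
    Function.Surjective (p2map f) := by
  intro c
  haveI : Finite H := Finite.of_surjective f hf
  obtain ⟨k, m, hm, hk⟩ := Nat.exists_eq_two_pow_mul_odd (Nat.card_pos (α := G)).ne'
  have hc : (Nat.card (p2 H)).Coprime m := by
    rw [card_p2]; exact Nat.Coprime.pow_left _ (Nat.coprime_two_left.2 hm)
  obtain ⟨c', rfl⟩ := (powCoprime hc).surjective c
  obtain ⟨x, hx⟩ := hf c'
  refine ⟨⟨x ^ m, k, by rw [← pow_mul, mul_comm, ← hk, pow_card_eq_one']⟩, Subtype.ext ?_⟩
  simp [hx]

end p2

section val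

theorem val_odd_pow {q : ℕ} (hq : Odd q) (h1 : 1 < q) (m : ℕ) :
    padicValNat 2 (q ^ (2 * m + 1) - 1) = padicValNat 2 (q - 1) := by
  have h : q ^ (2 * m + 1) - 1 = (q - 1) * ∑ i ∈ Finset.range (2 * m + 1), q ^ i := by
    have := Nat.geomSum_eq h1 (2 * m + 1)
    have h2 : q - 1 ∣ q ^ (2 * m + 1) - 1 := by
      simpa using Nat.sub_dvd_pow_sub_pow q 1 (2 * m + 1)
    rw [this, Nat.mul_div_cancel' h2]
  have h3 : ¬ 2 ∣ ∑ i ∈ Finset.range (2 * m + 1), q ^ i := by
    rw [Nat.two_dvd_ne_zero, Finset.sum_nat_mod]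
    simp [Nat.odd_iff.1 (hq.pow (n := _))]
  have h4 : ∑ i ∈ Finset.range (2 * m + 1), q ^ i ≠ 0 := fun h => h3 (h ▸ dvd_zero 2)
  rw [h, padicValNat.mul (by omega) h4, padicValNat.eq_zero_of_not_dvd h3, add_zero]

theorem prod_ne {q : ℕ} (h1 : 1 < q) (n : ℕ) : ∏ i ∈ Finset.range n, (q ^ (i + 1) - 1) ≠ 0 :=
  Finset.prod_ne_zero_iff.2 fun i _ => by
    have := Nat.one_lt_pow (n := i + 1) (by omega) h1
    omega

theorem val_prod_even {q : ℕ} (hq : Odd q) (h1 : 1 < q) (m : ℕ) :
    padicValNat 2 (∏ i ∈ Finset.range (2 * m), (q ^ (i + 1) - 1)) =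
      2 * m * padicValNat 2 (q - 1) + m * padicValNat 2 (q + 1) + padicValNat 2 m.factorial := by
  induction m with
  | zero => simp
  | succ m ih =>
    have e1 : q ^ (2 * m + 1) - 1 ≠ 0 := by
      have := Nat.one_lt_pow (n := 2 * m + 1) (by omega) h1
      omega
    have e2 : q ^ (2 * m + 1 + 1) - 1 ≠ 0 := by
      have := Nat.one_lt_pow (n := 2 * m + 1 + 1) (by omega) h1
      omega
    have h2 := padicValNat.pow_two_sub_one (x := q) (n := 2 * m + 1 + 1) h1
      (Nat.two_dvd_ne_zero.2 (Nat.odd_iff.1 hq)) (by omega) ⟨m + 1, by ring⟩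
    have h3 : padicValNat 2 (2 * m + 1 + 1) = padicValNat 2 (m + 1) + 1 := by
      rw [show 2 * m + 1 + 1 = (m + 1) * 2 by ring, padicValNat.mul (by omega) (by omega),
        padicValNat_self]
    rw [show 2 * (m + 1) = 2 * m + 1 + 1 by ring, Finset.prod_range_succ, Finset.prod_range_succ,
      padicValNat.mul (mul_ne_zero (prod_ne h1 _) e1) e2, padicValNat.mul (prod_ne h1 _) e1, ih,
      val_odd_pow hq h1, Nat.factorial_succ,
      padicValNat.mul (by omega) (Nat.factorial_ne_zero m)]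
    nlinarith

theorem val_prod {q : ℕ} (hq : Odd q) (h1 : 1 < q) (n : ℕ) :
    padicValNat 2 (∏ i ∈ Finset.range n, (q ^ (i + 1) - 1)) =
      n * padicValNat 2 (q - 1) + n / 2 * padicValNat 2 (q + 1) +
        padicValNat 2 (n / 2).factorial := by
  rcases Nat.even_or_odd' n with ⟨m, rfl | rfl⟩
  · rw [val_prod_even hq h1, show 2 * m / 2 = m by omega]
  · have e1 : q ^ (2 * m + 1) - 1 ≠ 0 := by
      have := Nat.one_lt_pow (n := 2 * m + 1) (by omega) h1
      omega
    rw [Finset.prod_range_succ, padicValNat.mul (prod_ne h1 _) e1, val_prod_even hq h1,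
      val_odd_pow hq h1, show (2 * m + 1) / 2 = m by omega]
    ring

theorem val_GL {F : Type*} [Field F] [Fintype F] (hq : Odd (Fintype.card F)) (n : ℕ) :
    padicValNat 2 (Nat.card (GL (Fin n) F)) =
      n * padicValNat 2 (Fintype.card F - 1) + n / 2 * padicValNat 2 (Fintype.card F + 1) +
        padicValNat 2 (n / 2).factorial := by
  have h1 : 1 < Fintype.card F := Fintype.one_lt_card
  rw [Matrix.card_GL_field, ← val_prod hq h1]
  generalize Fintype.card F = q at *
  rw [Fin.prod_univ_eq_prod_range (fun i => q ^ n - q ^ i) n]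
  have h2 : ∏ i ∈ Finset.range n, (q ^ n - q ^ i) =
      (∏ i ∈ Finset.range n, q ^ i) * ∏ i ∈ Finset.range n, (q ^ (i + 1) - 1) := by
    rw [← Finset.prod_range_reflect (fun i => q ^ (i + 1) - 1), ← Finset.prod_mul_distrib]
    refine Finset.prod_congr rfl fun i hi => ?_
    rw [Finset.mem_range] at hi
    rw [Nat.mul_sub, ← pow_add, mul_one]
    congr 2; omega
  have h3 : ¬ 2 ∣ ∏ i ∈ Finset.range n, q ^ i := by
    rw [Finset.prod_pow_eq_pow_sum]
    exact Nat.two_dvd_ne_zero.2 (Nat.odd_iff.1 hq.pow)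
  have h4 : ∏ i ∈ Finset.range n, q ^ i ≠ 0 := fun h => h3 (h ▸ dvd_zero 2)
  rw [h2, padicValNat.mul h4 (prod_ne h1 n),
    padicValNat.eq_zero_of_not_dvd h3, zero_add]

theorem card_SL_mul {F : Type*} [Field F] [Fintype F] (n : ℕ) [NeZero n] :
    Nat.card (Matrix.SpecialLinearGroup (Fin n) F) * Nat.card Fˣ = Nat.card (GL (Fin n) F) := by
  have h1 : (Matrix.GeneralLinearGroup.det : GL (Fin n) F →* Fˣ).ker =
      (Matrix.SpecialLinearGroup.toGL).range := by
    ext g
    refine ⟨fun hg => ⟨⟨g, congrArg Units.val hg⟩, Units.ext rfl⟩, ?_⟩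
    rintro ⟨g, rfl⟩
    exact Units.ext g.2
  have h2 : (Matrix.GeneralLinearGroup.det : GL (Fin n) F →* Fˣ).range = ⊤ :=
    MonoidHom.range_eq_top.2 Matrix.GeneralLinearGroup.det_surjective
  rw [← Subgroup.card_mul_index (Matrix.GeneralLinearGroup.det : GL (Fin n) F →* Fˣ).ker,
    Subgroup.index_ker, h2, h1, Subgroup.card_top,
    ← Nat.card_congr (MonoidHom.ofInjective Matrix.SpecialLinearGroup.toGL_injective).toEquiv]

end val

section quad
open QuadraticAlgebra

/-- the algebra `F[i]` -/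
abbrev KK (F : Type*) [Field F] : Type _ := QuadraticAlgebra F (-1) 0

variable {F : Type*} [Field F] [Fintype F]

instance instFiniteKK : Finite (KK F) := Finite.of_equiv _ (equivProd (-1 : F) 0).symm

theorem two_ne (hq : Odd (Fintype.card F)) : (2 : F) ≠ 0 := by
  intro h
  have h1 : ((Fintype.card F : ℕ) : F) = 0 := FiniteField.cast_card_eq_zero F
  obtain ⟨k, hk⟩ := hq
  rw [hk] at h1
  push_cast at h1
  rw [h] at h1
  simp at h1

/-- the norm on units -/
def N0 (F : Type*) [Field F] : (KK F)ˣ →* Fˣ := Units.map (norm : KK F →* F)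

theorem N0_surj (hq : Odd (Fintype.card F)) : Function.Surjective (N0 F) := by
  intro c
  obtain ⟨a, b, h⟩ := FiniteField.exists_root_sum_quadratic (R := F) (f := Polynomial.X ^ 2)
    (g := Polynomial.X ^ 2 - Polynomial.C (c : F)) (by simp)
    (Polynomial.degree_X_pow_sub_C (by norm_num) _) (Nat.odd_iff.1 hq)
  have hn : norm (⟨a, b⟩ : KK F) = c := by
    simp only [Polynomial.eval_pow, Polynomial.eval_X, Polynomial.eval_sub,
      Polynomial.eval_C] at h
    rw [norm_def]; simp only; linear_combination h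
  have hu : IsUnit (⟨a, b⟩ : KK F) := isUnit_iff_norm_isUnit.2 (hn ▸ c.isUnit)
  exact ⟨hu.unit, Units.ext hn⟩

theorem ker_N0 (hq : Odd (Fintype.card F)) : IsCyclic (N0 F).ker ∧
    padicValNat 2 (Nat.card (N0 F).ker) + 1 =
      padicValNat 2 (Fintype.card F - 1) + padicValNat 2 (Fintype.card F + 1) := by
  have h1 : 1 < Fintype.card F := Fintype.one_lt_card
  have h2 := two_ne hq
  have hodd := Nat.odd_iff.1 hq
  have hv : ∀ k, k % 4 = 2 → padicValNat 2 k = 1 := fun k hk => by
    rw [show k = (k / 2) * 2 by omega, padicValNat.mul (by omega) (by omega), padicValNat_self,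
      padicValNat.eq_zero_of_not_dvd (by omega)]
  by_cases hs : IsSquare (-1 : F)
  · have h4 := FiniteField.isSquare_neg_one_iff.1 hs
    obtain ⟨j, hj⟩ := hs
    have hj0 : j ≠ 0 := by rintro rfl; simp at hj
    let φ : KK F →ₐ[F] F := QuadraticAlgebra.lift ⟨j, by simp [← hj]⟩
    have hφ : ∀ z : KK F, φ z = z.re + z.im * j := fun z => by simp [φ]
    let ψ : (N0 F).ker →* Fˣ := (Units.map (φ : KK F →* F)).comp (N0 F).ker.subtype
    have hψ : Function.Bijective ψ := by
      constructor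
      · rw [injective_iff_map_eq_one]
        rintro ⟨z, hz⟩ h
        have e1 : (z : KK F).re + (z : KK F).im * j = 1 := by
          rw [← hφ]; exact congrArg Units.val h
        have e2 : norm (z : KK F) = 1 := congrArg Units.val hz
        rw [norm_def] at e2
        have e3 : (z : KK F).re - (z : KK F).im * j = 1 := by
          linear_combination e2 - ((z : KK F).re - (z : KK F).im * j) * e1
            + (z : KK F).im * (z : KK F).im * hj
        have e4 : (z : KK F).im = 0 := by
          have : 2 * j * (z : KK F).im = 0 := by linear_combination e1 - e3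
          simpa [h2, hj0] using this
        apply Subtype.ext; apply Units.ext
        ext
        · simpa [e4] using e1
        · simpa using e4
      · intro t
        have ht := t.ne_zero
        have hn : norm (⟨((t : F) + (t : F)⁻¹) / 2, ((t : F) - (t : F)⁻¹) / (2 * j)⟩ : KK F) = 1 := by
          rw [norm_def]; simp only
          have : j * j = -1 := hj.symm
          field_simp
          linear_combination (-((t : F) ^ 2 + 1) ^ 2 + 4 * (t : F) ^ 2) * hj
        have hu : IsUnit (⟨((t : F) + (t : F)⁻¹) / 2, ((t : F) - (t : F)⁻¹) / (2 * j)⟩ : KK F) :=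
          isUnit_iff_norm_isUnit.2 (by rw [hn]; exact isUnit_one)
        refine ⟨⟨hu.unit, Units.ext hn⟩, Units.ext ?_⟩
        show φ (⟨((t : F) + (t : F)⁻¹) / 2, ((t : F) - (t : F)⁻¹) / (2 * j)⟩ : KK F) = (t : F)
        rw [hφ]; simp only
        field_simp; ring
    refine ⟨isCyclic_of_injective ψ hψ.1, ?_⟩
    rw [Nat.card_congr (Equiv.ofBijective ψ hψ), Nat.card_units, Nat.card_eq_fintype_card,
      hv (Fintype.card F + 1) (by omega)]
  · have h4 : Fintype.card F % 4 = 3 := by
      by_contra h; exact hs (FiniteField.isSquare_neg_one_iff.2 h)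
    haveI : Fact (∀ r : F, r ^ 2 ≠ -1 + 0 * r) := ⟨fun r hr => hs ⟨r, by linear_combination -hr⟩⟩
    refine ⟨inferInstance, ?_⟩
    have e1 : Nat.card (N0 F).ker * Nat.card (N0 F).range = Nat.card (KK F)ˣ := by
      rw [← Subgroup.index_ker, Subgroup.card_mul_index]
    rw [MonoidHom.range_eq_top.2 (N0_surj hq), Subgroup.card_top, Nat.card_units, Nat.card_units,
      Nat.card_congr (equivProd (-1 : F) 0), Nat.card_prod, Nat.card_eq_fintype_card (α := F)] at e1
    have e2 : Nat.card (N0 F).ker = Fintype.card F + 1 := by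
      obtain ⟨k, hk⟩ : ∃ k, Fintype.card F = k + 1 := ⟨Fintype.card F - 1, by omega⟩
      rw [hk] at e1 h1 ⊢
      rw [show (k + 1) * (k + 1) - 1 = (k + 1 + 1) * (k + 1 - 1) by
        rw [Nat.add_sub_cancel]; exact Nat.sub_eq_of_eq_add (by ring)] at e1
      exact Nat.eq_of_mul_eq_mul_right (by omega) e1
    rw [e2, hv (Fintype.card F - 1) (by omega), add_comm]

end quad

end Cfsg.Agent.Ln
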